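import Cfsg.Agent.OddChar.Zassenhaus.Coherent

/-!
# Feit's inequality for Zassenhaus groups
-/

set_option linter.unusedSectionVars false
set_option linter.style.haveILetI false
set_option linter.unusedVariables false

namespace Cfsg.Lib.OddChar.Zassenhaus

open Subgroup MulAction Function
open Cfsg.Lib.Chars Cfsg.Lib.InducedFamily Cfsg.Lib.FrobCoherence
open scoped commutatorElement Pointwise

universe u v

variable {G : Type u} {Ω : Type v} [Group G] [Finite G] [MulAction G Ω] [Fintype Ω]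
  {a b : Ω} {h e : ℕ} {H : Subgroup G}

/-- A kernel which is abelian or has a large derived quotient gives coherence. -/
theorem coherent_or_two [Fintype G] (K L : Subgroup G) [Fintype L] [(K.subgroupOf L).Normal]
    (hK : K ≠ ⊥) (hlt : K < L) (hL : normalizer (K : Set G) = L)
    (hTI : ∀ g : G, g ∉ L → ∀ k ∈ K, g * k * g⁻¹ ∈ K → k = 1)
    (hC : ∀ k ∈ K, k ≠ 1 → centralizer ({k} : Set G) ≤ K)
    (he : Nat.card K ≠ (K.subgroupOf L).index + 1) :
    Cfsg.IsCoherent (Cfsg.inducedIrrAbove (K.subgroupOf L) ⊥) {1}ᶜ (fun α => Cfsg.indFun L α) ∨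
      (IsPGroup 2 K ∧ ¬ IsMulCommutative K ∧ ⁅K, K⁆.relIndex K ≤ 4 * (K.subgroupOf L).index ^ 2 + 1) := by
  have hC0 := centralizer_le_sub K L hC
  obtain ⟨hτ, hτ1⟩ := indFun_isometry K L hTI hC
  rcases coherent_or_pgroup hC0 (sub_ne_bot K L hlt hK) (sub_ne_top K L hlt)
    (by rw [card_sub K L hlt]; exact he) hτ hτ1 with h' | ⟨p, hp, ⟨m, hm⟩, hnc, hle⟩
  · exact Or.inl h'
  haveI : Fact p.Prime := ⟨hp⟩
  rw [card_sub K L hlt] at hm
  rw [relIndex_derived_sub K L hlt] at hle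
  rw [comm_sub K L hlt] at hnc
  have hm0 : m ≠ 0 := fun h' => hK (Subgroup.card_eq_one.mp (by rw [hm, h', pow_zero]))
  subst hL
  obtain ⟨P, rfl⟩ := exists_sylow_eq K _ hC rfl p (IsPGroup.of_card hm) (hm ▸ dvd_pow_self p hm0)
  by_cases hp2 : p = 2
  · subst hp2
    exact Or.inr ⟨P.2, hnc, hle⟩
  · exact Or.inl (coherent_sylow p P hTI hlt hC hp2 hnc)

theorem simple_case [IsSimpleGroup G] (hZ : Cfsg.IsZassenhausGroup G Ω) (hab : a ≠ b)
    (hh : Fintype.card Ω = h + 1) (he : Nat.card (stab₂ G a b) = e) (hodd : Odd e)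
    (hHa : H ≤ stabilizer G a) (hHcard : Nat.card H + 1 = Fintype.card Ω)
    (hHfix : ∀ u ∈ H, u ≠ 1 → ∀ c : Ω, u • c = c → c = a) :
    h - 1 ≤ 2 * e ∨ (IsPGroup 2 H ∧ (∃ u v : H, u * v ≠ v * u) ∧ (commutator H).index ≤ 4 * e ^ 2 + 1) := by
  classical
  letI := Fintype.ofFinite G
  obtain ⟨hH1, hlt, hnorm, hTI, hC⟩ := kernel_ti hZ hab hh hHa hHcard hHfix
  haveI : (H.subgroupOf (stabilizer G a)).Normal :=
    ⟨fun u hu g => kernel_normal hZ hab hh hHa hHcard hHfix g g.2 u hu⟩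
  have hh2 := two_le hZ hab hh
  have hind : (H.subgroupOf (stabilizer G a)).index = e := by
    have h1 := (H.subgroupOf (stabilizer G a)).card_mul_index
    rw [card_sub H _ hlt, card_stab hZ hab hh he a, show Nat.card H = h by omega] at h1
    exact Nat.eq_of_mul_eq_mul_left (by omega) h1
  by_cases hsmall : Nat.card H = (H.subgroupOf (stabilizer G a)).index + 1
  · left
    rw [hind] at hsmall
    omega
  rcases coherent_or_two H (stabilizer G a) hH1 hlt hnorm hTI hC hsmall with h' | ⟨h1, h2, h3⟩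
  · exact Or.inl (le_two_mul_of_coherent hZ hab hh he hodd hHa hHcard hHfix h')
  · refine Or.inr ⟨h1, ?_, ?_⟩
    · by_contra hno
      push Not at hno
      exact h2 ⟨⟨hno⟩⟩
    · rw [hind] at h3
      refine le_trans (le_of_eq ?_) h3
      rw [Subgroup.relIndex, ← Subgroup.map_subtype_commutator H, Subgroup.subgroupOf,
        Subgroup.comap_map_eq_self_of_injective H.subtype_injective]

/-- A nontrivial normal subgroup is transitive. -/
theorem normal_transitive (hZ : Cfsg.IsZassenhausGroup G Ω) (hab : a ≠ b) (N : Subgroup G) (hN : N.Normal)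
    (hN1 : N ≠ ⊥) (c d : Ω) : ∃ n ∈ N, n • c = d := by
  rcases eq_or_ne c d with rfl | hcd
  · exact ⟨1, N.one_mem, one_smul _ _⟩
  obtain ⟨x, hx, hx1⟩ := (Subgroup.bot_or_exists_ne_one N).resolve_left hN1
  have := hZ.1
  obtain ⟨p, hp⟩ : ∃ p : Ω, x • p ≠ p := by
    by_contra hno
    push Not at hno
    exact hx1 (eq_of_smul_eq_smul (α := Ω) fun p => by rw [hno p, one_smul])
  obtain ⟨g, hg1, hg2⟩ := exists_map hZ (Ne.symm hp) hcd
  refine ⟨g * x * g⁻¹, hN.conj_mem x hx g, ?_⟩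
  rw [← hg1, mul_smul, mul_smul, inv_smul_smul, hg2]

theorem stab_ne_bot_of_normal (hZ : Cfsg.IsZassenhausGroup G Ω) (hab : a ≠ b) (N : Subgroup G) (hN : N.Normal)
    (hN1 : N ≠ ⊥) : ∃ n ∈ N, n ≠ 1 ∧ n • a = a := by
  have htr : IsPretransitive N Ω := ⟨fun c d => by
    obtain ⟨n, hn, hnc⟩ := normal_transitive hZ hab N hN hN1 c d
    exact ⟨⟨n, hn⟩, hnc⟩⟩
  obtain ⟨p, hp⟩ := hZ.2.2.2.2 N hN htr
  obtain ⟨⟨n, hn⟩, hnp, hn1⟩ := (Subgroup.bot_or_exists_ne_one _).resolve_left hp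
  obtain ⟨m, hm, hma⟩ := normal_transitive hZ hab N hN hN1 p a
  refine ⟨m * n * m⁻¹, hN.conj_mem n hn m, fun h' => hn1 (Subtype.ext (conj_eq_one_iff.mp h')), ?_⟩
  rw [← hma, mul_smul, mul_smul, inv_smul_smul, show n • p = p from hnp]

/-- A nontrivial normal subgroup meets the two-point stabiliser. -/
theorem normal_meets_stab₂ (hZ : Cfsg.IsZassenhausGroup G Ω) (hab : a ≠ b) (N : Subgroup G) (hN : N.Normal)
    (hN1 : N ≠ ⊥) : ∃ x ∈ N, x ≠ 1 ∧ x ∈ stab₂ G a b := by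
  classical
  by_contra hno
  push Not at hno
  have hfix : ∀ n ∈ N, ∀ c d : Ω, c ≠ d → n • c = c → n • d = d → n = 1 := by
    intro n hn c d hcd hc hd
    by_contra hn1
    obtain ⟨g, hg1, hg2⟩ := exists_map hZ hcd hab
    refine hno (g * n * g⁻¹) (hN.conj_mem n hn g) (fun h' => hn1 (conj_eq_one_iff.mp h')) ⟨?_, ?_⟩
    · show (g * n * g⁻¹) • a = a
      rw [← hg1, mul_smul, mul_smul, inv_smul_smul, hc]
    · show (g * n * g⁻¹) • b = b
      rw [← hg2, mul_smul, mul_smul, inv_smul_smul, hd]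
  obtain ⟨n₀, hn₀, hn₀1, hn₀a⟩ := stab_ne_bot_of_normal hZ hab N hN hN1
  have htr := normal_transitive hZ hab N hN hN1
  set A := (stabilizer G a).subgroupOf N with hA
  have hFC : Cfsg.IsFrobeniusComplement A := by
    refine ⟨fun h' => ?_, fun h' => ?_, fun g hg => ?_⟩
    · have h1 : (⟨n₀, hn₀⟩ : N) ∈ A := hn₀a
      rw [h', Subgroup.mem_bot] at h1
      exact hn₀1 (congrArg Subtype.val h1)
    · obtain ⟨n, hn, hnb⟩ := htr a b
      have h1 : (⟨n, hn⟩ : N) ∈ A := h' ▸ Subgroup.mem_top _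
      exact hab ((show n • a = a from h1).symm.trans hnb)
    · rw [eq_bot_iff_forall]
      rintro x ⟨hx1, hx2⟩
      replace hx2 := (Subgroup.mem_pointwise_smul_iff_inv_smul_mem (a := MulAut.conj g) (S := A) (x := x)).mp hx2
      have hx2' : ((g : G)⁻¹ * x * g) • a = a := by simpa [A, mem_subgroupOf] using hx2
      rw [mul_smul, mul_smul, inv_smul_eq_iff] at hx2'
      exact Subtype.ext (hfix x x.2 a ((g : G) • a) (fun h' => hg h'.symm) hx1 hx2')
  obtain ⟨M, hMset, -, hMc⟩ := Cfsg.Lib.Frobenius.exists_kernel hFC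
  have hmem : ∀ x : N, x ∈ M ↔ x = 1 ∨ ∀ c : Ω, (x : G) • c ≠ c := by
    intro x
    rw [← SetLike.mem_coe, hMset]
    show (x = 1 ∨ ∀ g : N, x ∉ MulAut.conj g • A) ↔ _
    refine or_congr Iff.rfl ⟨fun h' c hc => ?_, fun h' g hg => ?_⟩
    · obtain ⟨n, hn, hnc⟩ := htr a c
      refine h' ⟨n, hn⟩ ?_
      rw [Subgroup.mem_pointwise_smul_iff_inv_smul_mem]
      have : (n⁻¹ * (x : G) * n) • a = a := by rw [mul_smul, mul_smul, hnc, hc, ← hnc, inv_smul_smul]
      simpa [A, mem_subgroupOf] using this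
    · rw [Subgroup.mem_pointwise_smul_iff_inv_smul_mem] at hg
      have hg' : ((g : G)⁻¹ * x * g) • a = a := by simpa [A, mem_subgroupOf] using hg
      rw [mul_smul, mul_smul, inv_smul_eq_iff] at hg'
      exact h' _ hg'
  have hMn : (M.map N.subtype).Normal := ⟨by
    rintro _ ⟨x, hx, rfl⟩ g
    refine ⟨⟨g * x * g⁻¹, hN.conj_mem _ x.2 g⟩, (hmem _).mpr ?_, rfl⟩
    rcases (hmem x).mp hx with rfl | h'
    · exact Or.inl (Subtype.ext (by simp))
    · refine Or.inr fun c hc => h' (g⁻¹ • c) ?_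
      rw [eq_inv_smul_iff, ← mul_smul, ← mul_smul]
      exact hc⟩
  have hMtr : IsPretransitive (M.map N.subtype) Ω := ⟨fun c d => by
    obtain ⟨n, hn, hnc⟩ := htr a c
    obtain ⟨n', hn', hnd⟩ := htr a d
    obtain ⟨⟨m, y⟩, hmy⟩ := hMc.2 ⟨n, hn⟩
    obtain ⟨⟨m', y'⟩, hmy'⟩ := hMc.2 ⟨n', hn'⟩
    have e1 : ((m : N) : G) • a = c := by
      rw [← hnc, show n = ((m : N) : G) * ((y : N) : G) from (congrArg Subtype.val hmy).symm, mul_smul,
        show ((y : N) : G) • a = a from y.2]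
    have e2 : ((m' : N) : G) • a = d := by
      rw [← hnd, show n' = ((m' : N) : G) * ((y' : N) : G) from (congrArg Subtype.val hmy').symm, mul_smul,
        show ((y' : N) : G) • a = a from y'.2]
    refine ⟨⟨((m' * m⁻¹ : M) : N), _, (m' * m⁻¹ : M).2, rfl⟩, ?_⟩
    show (((m' * m⁻¹ : M) : N) : G) • c = d
    rw [← e1, ← e2]
    simp [mul_smul]⟩
  obtain ⟨p, hp⟩ := hZ.2.2.2.2 _ hMn hMtr
  obtain ⟨⟨_, x, hx, rfl⟩, hxp, hx1⟩ := (Subgroup.bot_or_exists_ne_one _).resolve_left hp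
  rcases (hmem x).mp hx with rfl | h'
  · exact hx1 (Subtype.ext rfl)
  · exact h' p hxp

/-- A nontrivial normal subgroup contains the kernel. -/
theorem kernel_le_normal (hZ : Cfsg.IsZassenhausGroup G Ω) (hab : a ≠ b) (hh : Fintype.card Ω = h + 1)
    (hHa : H ≤ stabilizer G a) (hHcard : Nat.card H + 1 = Fintype.card Ω)
    (hHfix : ∀ u ∈ H, u ≠ 1 → ∀ c : Ω, u • c = c → c = a)
    (N : Subgroup G) (hN : N.Normal) (hN1 : N ≠ ⊥) : H ≤ N := by
  classical
  obtain ⟨x, hx, hx1, hxE⟩ := normal_meets_stab₂ hZ hab N hN hN1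
  have hn := kernel_normal hZ hab hh hHa hHcard hHfix
  have hmem : ∀ y : H, (y : G)⁻¹ * (x * y * x⁻¹) ∈ H := fun y =>
    H.mul_mem (H.inv_mem y.2) (hn x hxE.1 y y.2)
  have hinj : Injective fun y : H => (⟨_, hmem y⟩ : H) := by
    intro y z hyz
    have h1 := congrArg Subtype.val hyz
    simp only at h1
    by_contra hne
    have hc : x * ((y : G) * (z : G)⁻¹) = ((y : G) * (z : G)⁻¹) * x := by
      calc x * ((y : G) * (z : G)⁻¹) = y * ((y : G)⁻¹ * (x * y * x⁻¹)) * (x * (z : G)⁻¹) := by group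
        _ = y * ((z : G)⁻¹ * (x * z * x⁻¹)) * (x * (z : G)⁻¹) := by rw [h1]
        _ = ((y : G) * (z : G)⁻¹) * x := by group
    have hfp := fpf hab hZ hHa hHfix x hxE hx1
    rw [eq_bot_iff_forall] at hfp
    exact hne (Subtype.ext (mul_inv_eq_one.mp (hfp _ ⟨H.mul_mem y.2 (H.inv_mem z.2),
      mem_centralizer_singleton_iff.mpr hc.symm⟩)))
  intro u hu
  obtain ⟨y, hy⟩ := (Finite.injective_iff_surjective.mp hinj) ⟨u, hu⟩
  have h1 : (y : G)⁻¹ * (x * y * x⁻¹) = u := congrArg Subtype.val hy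
  rw [← h1, ← mul_assoc, ← mul_assoc]
  exact N.mul_mem (by simpa using hN.conj_mem x hx (y : G)⁻¹) (N.inv_mem hx)

theorem normal_isZassenhaus (hZ : Cfsg.IsZassenhausGroup G Ω) (hab : a ≠ b) (hh : Fintype.card Ω = h + 1)
    (hHa : H ≤ stabilizer G a) (hHcard : Nat.card H + 1 = Fintype.card Ω)
    (hHfix : ∀ u ∈ H, u ≠ 1 → ∀ c : Ω, u • c = c → c = a)
    (N : Subgroup G) (hN : N.Normal) (hN1 : N ≠ ⊥) : Cfsg.IsZassenhausGroup N Ω := by
  classical
  have hf := hZ.1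
  obtain ⟨x, hx, hx1, hxE⟩ := normal_meets_stab₂ hZ hab N hN hN1
  have hHN := kernel_le_normal hZ hab hh hHa hHcard hHfix N hN hN1
  have htr := normal_transitive hZ hab N hN hN1
  have h2a : ∀ c d : Ω, c ≠ d → ∃ n ∈ N, n • a = c ∧ n • b = d := by
    intro c d hcd
    obtain ⟨n, hn, hnc⟩ := htr a c
    have hd : n⁻¹ • d ≠ a := fun h' => hcd (by rw [← hnc, ← h', smul_inv_smul])
    obtain ⟨u, hu, hub⟩ := exists_kernel_map hHa hHcard hHfix hab.symm hd
    exact ⟨n * u, N.mul_mem hn (hHN hu), by rw [mul_smul, show u • a = a from hHa hu, hnc],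
      by rw [mul_smul, hub, smul_inv_smul]⟩
  have h2 : MulAction.IsMultiplyPretransitive N Ω 2 := by
    rw [MulAction.is_two_pretransitive_iff]
    intro c d c' d' hcd hcd'
    obtain ⟨n, hn, h1, h2⟩ := h2a c d hcd
    obtain ⟨m, hm, h3, h4⟩ := h2a c' d' hcd'
    refine ⟨⟨m * n⁻¹, N.mul_mem hm (N.inv_mem hn)⟩, ?_, ?_⟩
    · show (m * n⁻¹) • c = c'
      rw [← h1, mul_smul, inv_smul_smul, h3]
    · show (m * n⁻¹) • d = d'
      rw [← h2, mul_smul, inv_smul_smul, h4]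
  refine ⟨⟨fun {m₁ m₂} hm => Subtype.ext (eq_of_smul_eq_smul (α := Ω) hm)⟩, h2, fun n p q r hpq hqr hpr h1 h2 h3 =>
    Subtype.ext (hZ.2.2.1 n p q r hpq hqr hpr h1 h2 h3),
    ⟨⟨x, hx⟩, fun h' => hx1 (congrArg Subtype.val h'), a, b, hab, hxE.1, hxE.2⟩, ?_⟩
  intro M hM hMtr
  by_contra hno
  push Not at hno
  have hsemi : ∀ m : N, m ∈ M → ∀ c : Ω, (m : G) • c = c → m = 1 := by
    intro m hm c hc
    have h1 : (⟨m, hm⟩ : M) ∈ stabilizer M c := hc
    rw [hno c, Subgroup.mem_bot] at h1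
    exact congrArg Subtype.val h1
  have hMmem : ∀ c d : Ω, ∃ m : N, m ∈ M ∧ (m : G) • c = d := fun c d => by
    obtain ⟨⟨m, hm⟩, hmc⟩ := hMtr.exists_smul_eq c d
    exact ⟨m, hm, hmc⟩
  -- the non-identity elements of `M` are conjugate in `N`
  have hconj : ∀ z : N, z ∈ M → z ≠ 1 → ∀ y : N, y ∈ M → y ≠ 1 → ∃ n : N, n * z * n⁻¹ = y := by
    intro z hz hz1 y hy hy1
    have hza : (z : G) • a ≠ a := fun h' => hz1 (hsemi z hz a h')
    have hya : (y : G) • a ≠ a := fun h' => hy1 (hsemi y hy a h')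
    obtain ⟨n, hn1, hn2⟩ := MulAction.is_two_pretransitive_iff.mp h2 (Ne.symm hza) (Ne.symm hya)
    refine ⟨n, ?_⟩
    have hn1' : (n : G) • a = a := hn1
    have hn2' : (n : G) • (z : G) • a = (y : G) • a := hn2
    refine mul_inv_eq_one.mp (hsemi _ (M.mul_mem (hM.conj_mem z hz n) (M.inv_mem hy)) ((y : G) • a) ?_)
    simp only [Subgroup.coe_mul, Subgroup.coe_inv, mul_smul, inv_smul_smul]
    rw [inv_smul_eq_iff.mpr hn1'.symm, hn2']
  have hab' : ∀ y z : N, y ∈ M → z ∈ M → y * z = z * y := by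
    obtain ⟨m₀, hm₀, hm₀a⟩ := hMmem a b
    have hm₀1 : m₀ ≠ 1 := fun h' => hab (by rw [← hm₀a, h']; exact (one_smul _ _).symm)
    haveI : Nontrivial M := ⟨⟨⟨m₀, hm₀⟩, 1, fun h' => hm₀1 (congrArg Subtype.val h')⟩⟩
    obtain ⟨p, hp, hpd⟩ := Nat.exists_prime_and_dvd (Finite.one_lt_card (α := M)).ne'
    haveI : Fact p.Prime := ⟨hp⟩
    obtain ⟨x₀, hx₀⟩ := exists_prime_orderOf_dvd_card' (G := M) p hpd
    have hx₀1 : (x₀ : N) ≠ 1 := fun h' => by
      rw [show x₀ = 1 from Subtype.ext h', orderOf_one] at hx₀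
      exact hp.ne_one hx₀.symm
    have hpg : IsPGroup p M := fun y => ⟨1, by
      rw [pow_one]
      by_cases hy : y = 1
      · rw [hy, one_pow]
      obtain ⟨n, hn⟩ := hconj x₀ x₀.2 hx₀1 y y.2 fun h' => hy (Subtype.ext h')
      apply Subtype.ext
      rw [Subgroup.coe_pow, ← hn, conj_pow, ← Subgroup.coe_pow, ← hx₀, pow_orderOf_eq_one]
      simp⟩
    obtain ⟨z, hz, hz1⟩ := (Subgroup.bot_or_exists_ne_one (Subgroup.center M)).resolve_left
      (bot_lt_iff_ne_bot.mp hpg.bot_lt_center)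
    intro y w hy hw
    by_cases hy1 : y = 1
    · simp [hy1]
    obtain ⟨n, hn⟩ := hconj z z.2 (fun h' => hz1 (Subtype.ext h')) y hy hy1
    have hw' : n⁻¹ * w * n ∈ M := by simpa using hM.conj_mem w hw n⁻¹
    have h1 := congrArg Subtype.val (Subgroup.mem_center_iff.mp hz ⟨_, hw'⟩)
    simp only [Subgroup.coe_mul] at h1
    rw [← hn]
    calc n * (z : N) * n⁻¹ * w = n * ((z : N) * (n⁻¹ * w * n)) * n⁻¹ := by group
      _ = n * ((n⁻¹ * w * n) * z) * n⁻¹ := by rw [h1]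
      _ = w * (n * z * n⁻¹) := by group
  -- `M` is invariant under `G`
  have hMn : (M.map N.subtype).Normal := ⟨by
    rintro _ ⟨m, hm, rfl⟩ g
    set M' := M.comap ((MulAut.conjNormal (H := N) g).symm.toMonoidHom) with hM'
    haveI : M'.Normal := hM.comap _
    have hg' : (⟨g * m * g⁻¹, hN.conj_mem _ m.2 g⟩ : N) ∈ M' := by
      show (MulAut.conjNormal (H := N) g).symm ⟨g * m * g⁻¹, _⟩ ∈ M
      have heq : (MulAut.conjNormal (H := N) g).symm
          (⟨g * m * g⁻¹, hN.conj_mem _ m.2 g⟩ : N) = m := by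
        apply Subtype.ext
        rw [MulAut.conjNormal_symm_apply]
        show g⁻¹ * (g * m * g⁻¹) * g = m
        group
      rw [heq]
      exact hm
    have hsemi' : ∀ y : N, y ∈ M' → ∀ c : Ω, (y : G) • c = c → y = 1 := by
      intro y hy c hc
      have h1 := hsemi _ hy (g⁻¹ • c) (by
        show (((MulAut.conjNormal (H := N) g).symm y : N) : G) • g⁻¹ • c = g⁻¹ • c
        rw [MulAut.conjNormal_symm_apply, ← mul_smul, mul_assoc, mul_inv_cancel, mul_one, mul_smul, hc])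
      exact (MulEquiv.map_eq_one_iff _).mp h1
    suffices hle : M' ≤ M from ⟨_, hle hg', rfl⟩
    by_cases hint : M ⊓ M' = ⊥
    · intro y hy
      obtain ⟨w, hw, hwa⟩ := hMmem a ((y : G) • a)
      have hyc : ∀ z : N, z ∈ M → z * y = y * z := fun z hz =>
        Subgroup.commute_of_normal_of_disjoint M M' hM inferInstance (disjoint_iff.mpr hint) z y hz hy
      have hfixall : ∀ c : Ω, ((w⁻¹ * y : N) : G) • c = c := by
        intro c
        obtain ⟨z, hz, rfl⟩ := hMmem a c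
        have hcz : (w⁻¹ * y) * z = z * (w⁻¹ * y) := by
          rw [mul_assoc, ← hyc z hz, ← mul_assoc, hab' _ _ (M.inv_mem hw) hz, mul_assoc]
        show ((w⁻¹ * y : N) : G) • (z : G) • a = (z : G) • a
        rw [← mul_smul, ← Subgroup.coe_mul, hcz, Subgroup.coe_mul, mul_smul, Subgroup.coe_mul,
          Subgroup.coe_inv, mul_smul, ← hwa, inv_smul_smul]
      have h1 : w⁻¹ * y = 1 := Subtype.ext (eq_of_smul_eq_smul (α := Ω) fun c => by
        rw [hfixall c, OneMemClass.coe_one, one_smul])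
      rw [← (inv_mul_eq_one.mp h1)]
      exact hw
    · obtain ⟨q, hq, hq1⟩ := (Subgroup.bot_or_exists_ne_one _).resolve_left hint
      intro y hy
      by_cases hy1 : y = 1
      · exact hy1 ▸ M.one_mem
      have hya : (y : G) • a ≠ a := fun h' => hy1 (hsemi' y hy a h')
      have hqa : (q : G) • a ≠ a := fun h' => hq1 (hsemi q hq.1 a h')
      obtain ⟨n, hn1, hn2⟩ := MulAction.is_two_pretransitive_iff.mp h2 (Ne.symm hqa) (Ne.symm hya)
      have hn1' : (n : G) • a = a := hn1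
      have hn2' : (n : G) • (q : G) • a = (y : G) • a := hn2
      have hyq : n * q * n⁻¹ = y := by
        refine mul_inv_eq_one.mp (hsemi' _ (M'.mul_mem (Subgroup.Normal.conj_mem inferInstance q hq.2 n)
          (M'.inv_mem hy)) ((y : G) • a) ?_)
        simp only [Subgroup.coe_mul, Subgroup.coe_inv, mul_smul, inv_smul_smul]
        rw [inv_smul_eq_iff.mpr hn1'.symm, hn2']
      exact hyq ▸ hM.conj_mem q hq.1 n⟩
  obtain ⟨p, hp⟩ := hZ.2.2.2.2 _ hMn ⟨fun c d => by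
    obtain ⟨m, hm, hmc⟩ := hMmem c d
    exact ⟨⟨(m : G), m, hm, rfl⟩, hmc⟩⟩
  obtain ⟨⟨_, m, hm, rfl⟩, hmp, hm1⟩ := (Subgroup.bot_or_exists_ne_one _).resolve_left hp
  have := hsemi m hm p hmp
  subst this
  exact hm1 (Subtype.ext rfl)

/-- Feit's inequality. -/
theorem feit_inequality (hZ : Cfsg.IsZassenhausGroup G Ω) (hab : a ≠ b)
    (hh : Fintype.card Ω = h + 1) (he : Nat.card (stab₂ G a b) = e) (hodd : Odd e)
    (hHa : H ≤ stabilizer G a) (hHcard : Nat.card H + 1 = Fintype.card Ω)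
    (hHfix : ∀ u ∈ H, u ≠ 1 → ∀ c : Ω, u • c = c → c = a) :
    h - 1 ≤ 2 * e ∨ (IsPGroup 2 H ∧ (∃ u v : H, u * v ≠ v * u) ∧ (commutator H).index ≤ 4 * e ^ 2 + 1) := by
  suffices key : ∀ n : ℕ, ∀ (G : Type u) [Group G] [Finite G] [MulAction G Ω] (H : Subgroup G) (e : ℕ),
      Nat.card G = n → Cfsg.IsZassenhausGroup G Ω → Nat.card (stab₂ G a b) = e → Odd e →
      H ≤ stabilizer G a → Nat.card H + 1 = Fintype.card Ω →
      (∀ u ∈ H, u ≠ 1 → ∀ c : Ω, u • c = c → c = a) →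
      h - 1 ≤ 2 * e ∨ (IsPGroup 2 H ∧ (∃ u v : H, u * v ≠ v * u) ∧ (commutator H).index ≤ 4 * e ^ 2 + 1) from
    key _ G H e rfl hZ he hodd hHa hHcard hHfix
  clear hZ he hodd hHa hHcard hHfix
  intro n
  induction n using Nat.strong_induction_on with
  | _ n ih =>
    intro G _ _ _ H e hn hZ he hodd hHa hHcard hHfix
    by_cases hs : IsSimpleGroup G
    · exact simple_case hZ hab hh he hodd hHa hHcard hHfix
    have h1 := stab₂_ne_bot hZ hab
    rw [Finite.one_lt_card_iff_nontrivial] at h1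
    obtain ⟨⟨g, hgE⟩, hg⟩ := exists_ne (1 : stab₂ G a b)
    haveI : Nontrivial G := ⟨g, 1, fun h' => hg (Subtype.ext h')⟩
    obtain ⟨N, hN, hN1, hN2⟩ : ∃ N : Subgroup G, N.Normal ∧ N ≠ ⊥ ∧ N ≠ ⊤ := by
      by_contra hno
      push Not at hno
      exact hs ⟨fun N hN => (eq_or_ne N ⊥).imp id fun h' => hno N hN h'⟩
    have hHN := kernel_le_normal hZ hab hh hHa hHcard hHfix N hN hN1
    have hlt : Nat.card N < n := by
      rw [← hn]
      exact lt_of_le_of_ne (Subgroup.card_le_card_group N)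
        fun h' => hN2 (Subgroup.eq_top_of_card_eq N h')
    have hdvd : Nat.card (stab₂ N a b) ∣ e := by
      rw [← he]
      let f : stab₂ N a b →* stab₂ G a b :=
        { toFun := fun x => ⟨(x.1 : G), x.2.1, x.2.2⟩, map_one' := rfl, map_mul' := fun _ _ => rfl }
      exact Subgroup.card_dvd_of_injective f fun x y h' =>
        Subtype.ext (Subtype.ext (congrArg (fun z : stab₂ G a b => (z : G)) h'))
    have hle := Nat.le_of_dvd (he ▸ Nat.card_pos) hdvd
    set eq := Subgroup.subgroupOfEquivOfLe hHN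
    rcases ih _ hlt N (H.subgroupOf N) _ rfl (normal_isZassenhaus hZ hab hh hHa hHcard hHfix N hN hN1) rfl
      (hodd.of_dvd_nat hdvd) (fun x hx => hHa (Subgroup.mem_subgroupOf.mp hx))
      (by rw [Nat.card_congr eq.toEquiv]; exact hHcard)
      (fun x hx hx1 => hHfix x (Subgroup.mem_subgroupOf.mp hx) fun h' => hx1 (Subtype.ext h'))
      with h' | ⟨hp, ⟨x, y, hxy⟩, hi⟩
    · left; omega
    · refine Or.inr ⟨hp.of_equiv eq, ⟨eq x, eq y, fun h' => hxy (eq.injective (by rw [map_mul, map_mul, h']))⟩, ?_⟩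
      have hmap : (commutator (H.subgroupOf N)).map (eq : H.subgroupOf N ≃* H).toMonoidHom = commutator H := by
        rw [_root_.commutator_def, _root_.commutator_def, Subgroup.map_commutator,
          Subgroup.map_top_of_surjective _ eq.surjective]
      rw [← hmap, show ((commutator (H.subgroupOf N)).map (eq : H.subgroupOf N ≃* H).toMonoidHom).index =
        (commutator (H.subgroupOf N)).index from Subgroup.index_map_of_bijective eq.bijective _]
      exact le_trans hi (by have := Nat.pow_le_pow_left hle 2; omega)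

end Cfsg.Lib.OddChar.Zassenhaus
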