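import Cfsg.Agent.OddChar.Zassenhaus.Results
import Cfsg.Agent.OddChar.FrobeniusTICoherence
import Cfsg.Agent.S1529

/-!
# Coherent exceptional characters in a simple Zassenhaus group
-/

set_option linter.unusedSectionVars false
set_option linter.style.haveILetI false
set_option linter.unusedVariables false

namespace Cfsg.Lib.OddChar.Zassenhaus

open Subgroup MulAction Function
open Cfsg.Lib.Chars Cfsg.Lib.InducedFamily Cfsg.Lib.FrobCoherence
open scoped ComplexConjugate commutatorElement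

universe u v

variable {G : Type u} {Ω : Type v} [Group G] [Fintype G] [MulAction G Ω] [Fintype Ω]
  {a b : Ω} {h e : ℕ} {H : Subgroup G}
  (hZ : Cfsg.IsZassenhausGroup G Ω) (hab : a ≠ b) (hh : Fintype.card Ω = h + 1)
  (he : Nat.card (stab₂ G a b) = e) (hodd : Odd e)
  (hHa : H ≤ stabilizer G a) (hHcard : Nat.card H + 1 = Fintype.card Ω)
  (hHfix : ∀ u ∈ H, u ≠ 1 → ∀ c : Ω, u • c = c → c = a)

include hab hh hHa hHcard hHfix hZ in
theorem kernel_ti :
    H ≠ ⊥ ∧ H < stabilizer G a ∧ normalizer (H : Set G) = stabilizer G a ∧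
      (∀ g : G, g ∉ stabilizer G a → ∀ k ∈ H, g * k * g⁻¹ ∈ H → k = 1) ∧
      ∀ k ∈ H, k ≠ 1 → centralizer ({k} : Set G) ≤ H := by
  classical
  have hh2 := two_le hZ hab hh
  have hne : H ≠ ⊥ := fun h' => by
    rw [h', Subgroup.card_bot] at hHcard
    omega
  have hTI : ∀ g : G, g ∉ stabilizer G a → ∀ k ∈ H, g * k * g⁻¹ ∈ H → k = 1 := by
    intro g hg k hk hgk
    by_contra hk1
    refine hg (mem_stabilizer_iff.mpr (hHfix _ hgk (fun h' => hk1 (conj_eq_one_iff.mp h')) (g • a) ?_))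
    rw [mul_smul, mul_smul, inv_smul_smul, show k • a = a from hHa hk]
  have hn := kernel_normal hZ hab hh hHa hHcard hHfix
  have hL : normalizer (H : Set G) = stabilizer G a := by
    refine le_antisymm (fun g hg => ?_) fun g hg => mem_normalizer_fintype fun u hu => hn g hg u hu
    obtain ⟨u, hu, hu1⟩ := (Subgroup.bot_or_exists_ne_one H).resolve_left hne
    by_contra hga
    exact hu1 (hTI g hga u hu ((Subgroup.mem_normalizer_iff.mp hg u).mp hu))
  refine ⟨hne, lt_of_le_of_ne hHa fun h' => ?_, hL, hTI, fun k hk hk1 g hg => ?_⟩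
  · have h1 := stab₂_ne_bot hZ hab
    rw [Finite.one_lt_card_iff_nontrivial] at h1
    obtain ⟨⟨x, hx⟩, hx1⟩ := exists_ne (1 : stab₂ G a b)
    refine hab (hHfix x (h' ▸ hx.1) (fun h'' => hx1 (Subtype.ext h'')) b hx.2).symm
  · have hgk : g * k = k * g := mem_centralizer_singleton_iff.mp hg
    have hga : g • a = a := hHfix k hk hk1 (g • a) (by
      rw [← mul_smul, ← hgk, mul_smul, show k • a = a from hHa hk])
    by_cases hgne : g = 1
    · rw [hgne]; exact one_mem H
    refine mem_kernel hZ hab hh hHa hHcard hHfix hga fun c hc => ?_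
    by_contra hca
    have hkc : k • c ≠ c := fun h'' => hca (hHfix k hk hk1 c h'')
    have hkca : k • c ≠ a := fun h'' =>
      hca (smul_left_cancel k (h''.trans (show k • a = a from hHa hk).symm))
    have hg1 : g = 1 := eq_one_of_three hZ (Ne.symm hca) hkca hkc hga hc (by
      rw [← mul_smul, hgk, mul_smul, hc])
    exact hgne hg1

include hab hh hHa hHcard hHfix hZ in
/-- The projection of a point stabiliser on the two-point stabiliser. -/
theorem exists_retraction : ∃ π : stabilizer G a →* stab₂ G a b,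
    (∀ g : stabilizer G a, (g : G) ∈ H → π g = 1) ∧
      ∀ g : stabilizer G a, (g : G) ∈ stab₂ G a b → (π g : G) = g := by
  classical
  have hn := kernel_normal hZ hab hh hHa hHcard hHfix
  have hdec : ∀ g : stabilizer G a, ∃ u ∈ H, u⁻¹ * (g : G) ∈ stab₂ G a b := by
    intro g
    have hga : (g : G) • a = a := g.2
    have hgb : (g : G) • b ≠ a := fun h' => hab (smul_left_cancel (g : G) (hga.trans h'.symm))
    obtain ⟨u, hu, hub⟩ := exists_kernel_map hHa hHcard hHfix hab.symm hgb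
    refine ⟨u, hu, mem_inf.mpr ⟨mul_mem (inv_mem (hHa hu)) g.2, mem_stabilizer_iff.mpr ?_⟩⟩
    rw [mul_smul, ← hub, inv_smul_smul]
  choose u hu hux using hdec
  have huniq : ∀ (g : stabilizer G a) (v : G), v ∈ H → v⁻¹ * (g : G) ∈ stab₂ G a b → u g = v := by
    intro g v hv hvx
    have hd : (u g)⁻¹ * v ∈ stab₂ G a b := by
      have := mul_mem (hux g) (inv_mem hvx)
      simpa [mul_assoc] using this
    by_contra hne
    exact hab (hHfix _ (mul_mem (inv_mem (hu g)) hv) (fun h' => hne (inv_mul_eq_one.mp h')) b hd.2).symm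
  refine ⟨MonoidHom.mk' (fun g => ⟨_, hux g⟩) fun g g' => ?_, fun g hg => ?_, fun g hg => ?_⟩
  · apply Subtype.ext
    have hkey : u (g * g') = u g * ((u g)⁻¹ * (g : G) * u g' * ((u g)⁻¹ * (g : G))⁻¹) := by
      refine huniq _ _ (mul_mem (hu g) (hn _ (hux g).1 _ (hu g'))) ?_
      have := mul_mem (hux g) (hux g')
      convert this using 1
      simp only [Subgroup.coe_mul]
      group
    show (u (g * g'))⁻¹ * ((g * g' : stabilizer G a) : G) = ((u g)⁻¹ * (g : G)) * ((u g')⁻¹ * (g' : G))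
    rw [hkey, Subgroup.coe_mul]
    group
  · apply Subtype.ext
    show (u g)⁻¹ * (g : G) = 1
    rw [huniq g g hg (by rw [inv_mul_cancel]; exact one_mem _), inv_mul_cancel]
  · show (u g)⁻¹ * (g : G) = g
    rw [huniq g 1 (one_mem _) (by simpa using hg), inv_one, one_mul]

theorem sum_hom_apply {A : Type u} [Group A] [Finite A] [Fintype (A →* ℂˣ)]
    (hA : ∀ x y : A, x * y = y * x) {x : A} (hx : x ≠ 1) :
    ∑ μ : A →* ℂˣ, (μ x : ℂ) = 0 := by
  obtain ⟨ν, hν⟩ := Cfsg.Lib.Dual.exists_hom_ne_one hA hx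
  have h1 : ∑ μ : A →* ℂˣ, (μ x : ℂ) = (ν x : ℂ) * ∑ μ : A →* ℂˣ, (μ x : ℂ) := by
    rw [Finset.mul_sum]
    exact (Fintype.sum_equiv (Equiv.mulLeft ν) _ _ fun μ => by simp).symm
  have h2 : ((ν x : ℂ) - 1) * ∑ μ : A →* ℂˣ, (μ x : ℂ) = 0 := by linear_combination -h1
  exact (mul_eq_zero.mp h2).resolve_left (sub_ne_zero.mpr fun h' => hν (Units.ext h'))

theorem eq_or_inv_of_pointwise {A : Type u} [Group A] {μ ν : A →* ℂˣ}
    (hμν : ∀ x, ν x = μ x ∨ ν x = (μ x)⁻¹) : ν = μ ∨ ν = μ⁻¹ := by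
  by_contra hc
  push Not at hc
  obtain ⟨x, hx⟩ := not_forall.mp fun h' => hc.1 (MonoidHom.ext h')
  obtain ⟨y, hy⟩ := not_forall.mp fun h' => hc.2 (MonoidHom.ext h')
  have hx' : ν x = (μ x)⁻¹ := (hμν x).resolve_left hx
  have hy' : ν y = μ y := (hμν y).resolve_right hy
  rcases hμν (x * y) with h' | h'
  · rw [map_mul, map_mul, hy'] at h'
    exact hx (mul_right_cancel h')
  · rw [map_mul, map_mul, hx', mul_inv] at h'
    exact hy (by simpa using mul_left_cancel h')

theorem degree_eq {e h D : ℕ} {q : ℤ} (he3 : 3 ≤ e) (hbig : 2 * e + 2 ≤ h)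
    (hD2 : D ^ 2 ≤ (h + 1) * (h * e)) (hDpos : 0 < D) :
    ∀ s : ℤ, (s = 1 ∨ s = -1) → (D : ℤ) - s * e = q * (h * e) → s = 1 ∧ (D : ℤ) = e := by
    intro s hs h1
    have hq0 : q = 0 := by
      by_contra hq0
      have hbigD : (h : ℤ) * e - e ≤ D := by
        rcases lt_or_gt_of_ne hq0 with hn | hn
        · exfalso
          have : q * ((h : ℤ) * e) ≤ -1 * (h * e) := mul_le_mul_of_nonneg_right (by omega) (by positivity)
          rcases hs with rfl | rfl <;> nlinarith
        · have : 1 * ((h : ℤ) * e) ≤ q * (h * e) := mul_le_mul_of_nonneg_right (by omega) (by positivity)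
          rcases hs with rfl | rfl <;> linarith
      have h2 : ((h : ℤ) * e - e) ^ 2 ≤ (h + 1) * (h * e) := le_trans
        (pow_le_pow_left₀ (by nlinarith) hbigD 2) (by exact_mod_cast hD2)
      have h3 : (e : ℤ) * ((h : ℤ) - 1) ^ 2 ≤ (h + 1) * h :=
        le_of_mul_le_mul_left (by linarith) (show (0 : ℤ) < e by omega)
      have h4 : 3 * ((h : ℤ) - 1) ^ 2 ≤ (e : ℤ) * ((h : ℤ) - 1) ^ 2 :=
        mul_le_mul_of_nonneg_right (by omega) (sq_nonneg _)
      nlinarith
    rw [hq0, zero_mul, sub_eq_zero] at h1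
    rcases hs with rfl | rfl
    · exact ⟨rfl, by linarith⟩
    · exfalso; omega

set_option maxHeartbeats 1000000 in
include hab hh he hodd hHa hHcard hHfix hZ in
/-- Coherence forces a small kernel. -/
theorem le_two_mul_of_coherent [IsSimpleGroup G] [Fintype (stabilizer G a)]
    (hcoh : Cfsg.IsCoherent (Cfsg.inducedIrrAbove (H.subgroupOf (stabilizer G a)) ⊥) {1}ᶜ
      (fun α => Cfsg.indFun (stabilizer G a) α)) : h - 1 ≤ 2 * e := by
  classical
  by_contra hbig
  push Not at hbig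
  obtain ⟨hH1, hlt, hnorm, hTI, hC⟩ := kernel_ti hZ hab hh hHa hHcard hHfix
  obtain ⟨π, hπH, hπE⟩ := exists_retraction hZ hab hh hHa hHcard hHfix
  have hoddE : Odd (Nat.card (stab₂ G a b)) := he.symm ▸ hodd
  have he3 : 3 ≤ e := by
    have h1 := stab₂_ne_bot hZ hab
    rw [he] at h1
    obtain ⟨k, hk⟩ := hodd
    omega
  have hh7 : 2 * e + 2 ≤ h := by omega
  obtain ⟨hEc, hswap⟩ := swap_sq hZ hab hoddE hab
  obtain ⟨w, hwa, hwb⟩ := exists_map hZ hab hab.symm
  obtain ⟨hww, hwinv⟩ := hswap w hwa hwb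
  haveI hK0 : (H.subgroupOf (stabilizer G a)).Normal :=
    ⟨fun u hu g => kernel_normal hZ hab hh hHa hHcard hHfix g g.2 u hu⟩
  set K₀ := H.subgroupOf (stabilizer G a) with hK₀def
  have hC0 := centralizer_le_sub H (stabilizer G a) hC
  obtain ⟨hτ, hτ1⟩ := indFun_isometry H (stabilizer G a) hTI hC
  have hcardH : Nat.card H = h := by omega
  have hcardK : Nat.card K₀ = h := (card_sub H (stabilizer G a) hlt).trans hcardH
  have hcardL : Nat.card (stabilizer G a) = h * e := card_stab hZ hab hh he a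
  have hcardG : Nat.card G = (h + 1) * (h * e) := card_group hZ hab hh he
  have hindK : K₀.index = e := by
    have h1 := K₀.card_mul_index
    rw [hcardK, hcardL] at h1
    exact Nat.eq_of_mul_eq_mul_left (by omega) h1
  have hindL : (stabilizer G a).index = h + 1 := by
    have h1 := (stabilizer G a).card_mul_index
    rw [hcardL, hcardG, mul_comm (h + 1)] at h1
    exact Nat.eq_of_mul_eq_mul_left (Nat.mul_pos (by omega) (by omega)) h1
  have hLne : (Nat.card (stabilizer G a) : ℂ) ≠ 0 := by exact_mod_cast Nat.card_pos.ne'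
  -- elements outside the kernel are conjugate into `E`
  have houtside : ∀ g : (stabilizer G a), g ∉ K₀ → ∃ k : (stabilizer G a), ((k * g * k⁻¹ : (stabilizer G a)) : G) ∈ stab₂ G a b := by
    intro g hg
    obtain ⟨c, hc, hca⟩ : ∃ c, (g : G) • c = c ∧ c ≠ a := by
      by_contra hno
      push Not at hno
      exact hg (mem_kernel hZ hab hh hHa hHcard hHfix g.2 hno)
    obtain ⟨u, hu, hub⟩ := exists_kernel_map hHa hHcard hHfix hca hab.symm
    refine ⟨⟨u, hHa hu⟩, mem_inf.mpr ⟨(⟨u, hHa hu⟩ * g * ⟨u, hHa hu⟩⁻¹ : (stabilizer G a)).2, mem_stabilizer_iff.mpr ?_⟩⟩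
    show (u * (g : G) * u⁻¹) • b = b
    rw [mul_smul, mul_smul, ← hub, inv_smul_smul, hc]
  have hout' : ∀ g : (stabilizer G a), g ∉ K₀ → ∀ k : (stabilizer G a), ((k * g * k⁻¹ : (stabilizer G a)) : G) ∈ stab₂ G a b →
      ((k * g * k⁻¹ : (stabilizer G a)) : G) ≠ 1 := by
    intro g hg k _ h'
    have h1 : g = 1 := conj_eq_one_iff.mp (show k * g * k⁻¹ = 1 from Subtype.ext h')
    exact hg (h1 ▸ one_mem _)
  have hEfix : ∀ x ∈ stab₂ G a b, x ≠ 1 → ∀ c : Ω, x • c = c → c = a ∨ c = b := by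
    intro x hx hx1 c hc
    by_contra hno
    push Not at hno
    exact hx1 (eq_one_of_three hZ hab hno.1 hno.2 hx.1 hx.2 hc)
  have hsq : ∀ x ∈ stab₂ G a b, x * x = 1 → x = 1 := by
    intro x hx hxx
    have h1 : orderOf x ∣ Nat.card (stab₂ G a b) := Subgroup.orderOf_mk x hx ▸ orderOf_dvd_natCard _
    have h2 : orderOf x ∣ 2 := orderOf_dvd_of_pow_eq_one (by rw [sq, hxx])
    rw [← orderOf_eq_one_iff]
    exact Nat.eq_one_of_dvd_coprimes
      (Nat.prime_two.coprime_iff_not_dvd.mpr hoddE.not_two_dvd_nat) h2 h1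
  -- centralisers of elements of `E`
  have hCE : ∀ x ∈ stab₂ G a b, x ≠ 1 → Nat.card (centralizer ({x} : Set G)) = e := by
    intro x hx hx1
    rw [← he]
    refine Nat.card_congr (Equiv.subtypeEquivRight fun g => ?_)
    constructor
    · intro hg
      have hgx : g * x = x * g := mem_centralizer_singleton_iff.mp hg
      have hfix : ∀ c : Ω, x • c = c → x • (g • c) = g • c := fun (c : Ω) hc => by
        rw [← mul_smul, ← hgx, mul_smul, hc]
      rcases hEfix x hx hx1 _ (hfix a hx.1) with hga | hga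
      · rcases hEfix x hx hx1 _ (hfix b hx.2) with hgb | hgb
        · exact absurd (smul_left_cancel g (hgb.trans hga.symm)) hab.symm
        · exact mem_inf.mpr ⟨hga, hgb⟩
      · rcases hEfix x hx hx1 _ (hfix b hx.2) with hgb | hgb
        · obtain ⟨-, hinv⟩ := hswap g hga hgb
          refine absurd (hsq x hx ?_) hx1
          have h1 : g⁻¹ * x * g = x := by rw [mul_assoc, ← hgx, inv_mul_cancel_left]
          have h2 := (hinv x hx).symm.trans h1
          nth_rewrite 2 [← h2]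
          exact mul_inv_cancel x
        · exact absurd (smul_left_cancel g (hgb.trans hga.symm)) hab.symm
    · intro hg
      exact mem_centralizer_singleton_iff.mpr (hEc g hg x hx)
  -- the linear characters of the stabiliser and their induced functions
  letI : Fintype (stab₂ G a b →* ℂˣ) := Fintype.ofFinite _
  have hEcomm : ∀ x y : stab₂ G a b, x * y = y * x := fun x y => Subtype.ext (hEc x x.2 y y.2)
  have hM : Fintype.card (stab₂ G a b →* ℂˣ) = e := by
    rw [← Nat.card_eq_fintype_card, Cfsg.Lib.Dual.card_hom hEcomm, he]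
  set lam : (stab₂ G a b →* ℂˣ) → (stabilizer G a) → ℂ := fun μ g => (μ (π g) : ℂ) with hlam
  have hlamC : ∀ μ, Cfsg.IsCharacter (stabilizer G a) (lam μ) := fun μ => isCharacter_linear (μ.comp π)
  have hlamcf : ∀ μ, Cfsg.IsClassFunction (stabilizer G a) (lam μ) := fun μ => isClassFunction_isChar (hlamC μ)
  have hlamH : ∀ μ, ∀ g : (stabilizer G a), (g : G) ∈ H → lam μ g = 1 := fun μ g hg => by simp [hlam, hπH g hg]
  set θ : (stab₂ G a b →* ℂˣ) → G → ℂ := fun μ => Cfsg.indFun (stabilizer G a) (lam μ) with hθdef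
  have hθ1 : ∀ μ, θ μ 1 = (h : ℂ) + 1 := fun μ => by
    rw [hθdef]; simp only [indFun_one, hindL]
    rw [hlamH μ 1 (by simp)]; push_cast; ring
  have hθH : ∀ μ, ∀ u ∈ H, u ≠ 1 → θ μ u = 1 := by
    intro μ u hu hu1
    rw [hθdef]
    simp only [indFun_apply]
    have hterm : ∀ g : G, Cfsg.extendByZero (stabilizer G a) (lam μ) (g⁻¹ * u * g) = if g ∈ (stabilizer G a) then 1 else 0 := by
      intro g
      split_ifs with hg
      · rw [extendByZero_mem _ ((stabilizer G a).mul_mem ((stabilizer G a).mul_mem ((stabilizer G a).inv_mem hg) (hHa hu)) hg)]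
        exact hlamH μ _ (by simpa using kernel_normal hZ hab hh hHa hHcard hHfix g⁻¹ ((stabilizer G a).inv_mem hg) u hu)
      · refine extendByZero_not_mem _ fun hm => hg (mem_stabilizer_iff.mpr (hHfix u hu hu1 _ ?_))
        have hm' := mem_stabilizer_iff.mp hm
        rwa [mul_smul, mul_smul, inv_smul_eq_iff] at hm'
    rw [Finset.sum_congr rfl fun g _ => hterm g, Finset.sum_boole, ← Fintype.card_subtype,
      ← Nat.card_eq_fintype_card, inv_mul_cancel₀ hLne]
  have hθE : ∀ μ, ∀ x : stab₂ G a b, x ≠ 1 → θ μ x = (μ x : ℂ) + ((μ x)⁻¹ : ℂˣ) := by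
    intro μ x hx1
    have hx1' : (x : G) ≠ 1 := fun h' => hx1 (Subtype.ext h')
    have hxL : (x : G) ∈ (stabilizer G a) := x.2.1
    have hwx : w⁻¹ * (x : G) * w ∈ (stabilizer G a) := by rw [hwinv x x.2]; exact (stabilizer G a).inv_mem hxL
    rw [hθdef]
    simp only [indFun_apply]
    have hterm : ∀ g : G, Cfsg.extendByZero (stabilizer G a) (lam μ) (g⁻¹ * x * g) =
        (if g ∈ (stabilizer G a) then (μ x : ℂ) else 0) + if w⁻¹ * g ∈ (stabilizer G a) then (((μ x)⁻¹ : ℂˣ) : ℂ) else 0 := by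
      intro g
      by_cases hm : g⁻¹ * (x : G) * g ∈ (stabilizer G a)
      · have hfix : (x : G) • g • a = g • a := by
          have hm' := mem_stabilizer_iff.mp hm
          rwa [mul_smul, mul_smul, inv_smul_eq_iff] at hm'
        rcases hEfix x x.2 hx1' _ hfix with hga | hga
        · have hgL : g ∈ (stabilizer G a) := hga
          have hnw : w⁻¹ * g ∉ (stabilizer G a) := fun h' => by
            have h1 := mem_stabilizer_iff.mp h'
            rw [mul_smul, inv_smul_eq_iff, hwa, hga] at h1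
            exact hab h1
          rw [if_pos hgL, if_neg hnw, add_zero, extendByZero_mem _ hm,
            show (⟨g⁻¹ * x * g, hm⟩ : (stabilizer G a)) = (⟨g, hgL⟩ : (stabilizer G a))⁻¹ * ⟨x, hxL⟩ * ⟨g, hgL⟩ from rfl,
            classFunction_conj' (hlamcf μ)]
          simp only [hlam]
          rw [show π ⟨x, hxL⟩ = x from Subtype.ext (hπE ⟨x, hxL⟩ x.2)]
        · have hgL : g ∉ (stabilizer G a) := fun h' => hab ((show g • a = a from h').symm.trans hga)
          have hnw : w⁻¹ * g ∈ (stabilizer G a) := mem_stabilizer_iff.mpr (by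
            rw [mul_smul, inv_smul_eq_iff, hwa, hga])
          rw [if_neg hgL, if_pos hnw, zero_add, extendByZero_mem _ hm,
            show (⟨g⁻¹ * x * g, hm⟩ : (stabilizer G a)) = (⟨_, hnw⟩ : (stabilizer G a))⁻¹ * ⟨_, hwx⟩ * ⟨_, hnw⟩ from
              Subtype.ext (by simp only [Subgroup.coe_mul, Subgroup.coe_inv]; group),
            classFunction_conj' (hlamcf μ)]
          simp only [hlam]
          rw [show π ⟨_, hwx⟩ = x⁻¹ from Subtype.ext (by
            rw [hπE ⟨_, hwx⟩ (by simp only [hwinv x x.2]; exact inv_mem x.2), Subgroup.coe_inv]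
            exact hwinv x x.2), map_inv]
      · rw [extendByZero_not_mem _ hm, if_neg (fun h' => hm ((stabilizer G a).mul_mem ((stabilizer G a).mul_mem ((stabilizer G a).inv_mem h') hxL) h')),
          if_neg (fun h' => hm (by
            have := (stabilizer G a).mul_mem ((stabilizer G a).mul_mem ((stabilizer G a).inv_mem h') hwx) h'
            convert this using 1
            group)), add_zero]
    rw [Finset.sum_congr rfl fun g _ => hterm g, Finset.sum_add_distrib, ← Finset.sum_filter,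
      ← Finset.sum_filter, Finset.sum_const, Finset.sum_const]
    have hc1 : (Finset.univ.filter fun g : G => g ∈ (stabilizer G a)).card = Nat.card (stabilizer G a) := by
      rw [Nat.card_eq_fintype_card, Fintype.card_subtype]
    have hc2 : (Finset.univ.filter fun g : G => w⁻¹ * g ∈ (stabilizer G a)).card = Nat.card (stabilizer G a) := by
      rw [← hc1]
      exact Finset.card_bij' (fun g _ => w⁻¹ * g) (fun g _ => w * g) (by simp) (by simp) (by simp)
        (by simp)
    rw [hc1, hc2, nsmul_eq_mul, nsmul_eq_mul, ← mul_add, inv_mul_cancel_left₀ hLne]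
  -- the character of degree `h`
  have hθ1irr : Cfsg.IsIrrCharacter G (θ 1 - fun _ => 1) := by
    have hcf := isClassFunction_indFun (stabilizer G a) (lam 1)
    have hlam1 : lam 1 = fun _ => 1 := by funext g; simp [hlam]
    have hone1 : Cfsg.classInner (θ 1) (fun _ => (1 : ℂ)) = 1 := by
      rw [hθdef]
      simp only
      rw [frobenius_reciprocity (stabilizer G a) (lam 1) (isClassFunction_isChar (isCharacter_of_irr isIrrCharacter_one)),
        hlam1]
      exact classInner_self_irr isIrrCharacter_one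
    have hnn : Cfsg.classInner (θ 1) (θ 1) = 2 := by
      have hval : ∀ g : (stabilizer G a), θ 1 g = 2 + (if g = 1 then (h : ℂ) else 0) - if g ∈ K₀ then 1 else 0 := by
        intro g
        by_cases h1 : g = 1
        · subst h1
          rw [if_pos rfl, if_pos (one_mem _), OneMemClass.coe_one, hθ1]; ring
        by_cases hg : g ∈ K₀
        · rw [if_neg h1, if_pos hg, hθH 1 g hg fun h' => h1 (Subtype.ext h')]; ring
        · obtain ⟨k, hk⟩ := houtside g hg
          have hne : (⟨_, hk⟩ : stab₂ G a b) ≠ 1 := fun h' => hout' g hg k hk (congrArg Subtype.val h')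
          have h2 := hθE 1 ⟨_, hk⟩ hne
          rw [if_neg h1, if_neg hg, show θ 1 (g : G) = θ 1 ((k : G) * g * (k : G)⁻¹) from (hcf g k).symm]
          simp only [Subgroup.coe_mul, Subgroup.coe_inv, MonoidHom.one_apply, inv_one, Units.val_one] at h2
          rw [h2]; norm_num
      calc Cfsg.classInner (θ 1) (θ 1) = Cfsg.classInner (lam 1) (fun g : (stabilizer G a) => θ 1 g) :=
            frobenius_reciprocity (stabilizer G a) (lam 1) hcf
        _ = (Nat.card (stabilizer G a) : ℂ)⁻¹ * ∑ g : (stabilizer G a), conj (θ 1 g) := by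
            rw [classInner_def, hlam1]; simp
        _ = (Nat.card (stabilizer G a) : ℂ)⁻¹ * ∑ g : (stabilizer G a), (2 + (if g = 1 then (h : ℂ) else 0) - if g ∈ K₀ then 1 else 0) := by
            refine congrArg _ (Finset.sum_congr rfl fun g _ => ?_)
            rw [hval]; split_ifs <;> simp [map_ofNat]
        _ = 2 := by
            rw [Finset.sum_sub_distrib, Finset.sum_add_distrib, Finset.sum_const, Finset.card_univ,
              Finset.sum_ite_eq' Finset.univ (1 : (stabilizer G a)), if_pos (Finset.mem_univ _), Finset.sum_boole,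
              ← Fintype.card_subtype, ← Nat.card_eq_fintype_card, ← Nat.card_eq_fintype_card, hcardK,
              nsmul_eq_mul, add_sub_cancel_right, inv_mul_cancel_left₀ hLne]
    have hone2 : Cfsg.classInner (fun _ => (1 : ℂ)) (θ 1) = 1 := by
      rw [← classInner_conj_symm, hone1, map_one]
    have hn : Cfsg.classInner (θ 1 - fun _ => 1) (θ 1 - fun _ => 1) = 1 := by
      rw [classInner_sub_left, classInner_sub_right, classInner_sub_right, hone1, hone2, hnn,
        classInner_self_irr isIrrCharacter_one]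
      ring
    rcases isIrr_or_neg_of_norm_one (IsGeneralizedCharacter.sub
      (IsCharacter.isGeneralized (IsCharacter.indFun (hlamC 1)))
      (IsCharacter.isGeneralized (isCharacter_of_irr isIrrCharacter_one))) hn with h' | h'
    · exact h'
    · exfalso
      obtain ⟨n, hn0, hn1⟩ := IsIrrCharacter.apply_one h'
      have hv : (-(θ 1 - fun _ => (1 : ℂ)) : G → ℂ) 1 = -(h : ℂ) := by
        show -(θ 1 1 - 1) = _
        rw [hθ1]; ring
      rw [hv] at hn1
      have : ((n + h : ℕ) : ℂ) = 0 := by push_cast; linear_combination -hn1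
      rw [Nat.cast_eq_zero] at this
      omega
  have hθirr : ∀ μ, μ ≠ 1 → Cfsg.IsIrrCharacter G (θ μ) := by
    intro μ hμ
    refine (induced_linear hZ hab hoddE hHa hHcard hHfix (lam μ) (hlamC μ) (hlamH μ 1 (by simp))
      (fun g hg => hlamH μ g hg) fun h' => hμ ?_).1
    refine MonoidHom.ext fun x => Units.ext ?_
    have h2 := congrFun h' ⟨x, x.2.1⟩
    simp only [hlam] at h2
    rw [show π ⟨x, x.2.1⟩ = x from Subtype.ext (hπE ⟨x, x.2.1⟩ x.2)] at h2
    simpa using h2
  set M₁ := (Finset.univ : Finset (stab₂ G a b →* ℂˣ)).erase 1 with hM₁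
  set Γ : Cfsg.IrrCharacter G := ⟨_, hθ1irr⟩ with hΓ
  set P₁ : Cfsg.IrrCharacter G := ⟨fun _ => 1, isIrrCharacter_one⟩ with hP₁
  set ι : (stab₂ G a b →* ℂˣ) → Cfsg.IrrCharacter G := fun μ =>
    if hμ : μ = 1 then Γ else ⟨θ μ, hθirr μ hμ⟩ with hι
  have hιv : ∀ μ ∈ M₁, ((ι μ : Cfsg.IrrCharacter G) : G → ℂ) = θ μ := fun μ hμ => by
    simp only [hι, dif_neg (Finset.ne_of_mem_erase hμ)]
  set Θ := M₁.image ι with hΘ
  have hΘdeg : ∀ χ ∈ Θ, (χ : G → ℂ) 1 = (h : ℂ) + 1 := by
    intro χ hχ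
    obtain ⟨μ, hμ, rfl⟩ := Finset.mem_image.mp hχ
    rw [hιv μ hμ, hθ1]
  have hΓ1 : (Γ : G → ℂ) 1 = (h : ℂ) := by simp [hΓ, hθ1]
  have hP1 : P₁ ∉ Θ := fun h' => by
    have h1 := hΘdeg _ h'
    simp only [hP₁] at h1
    have : h = 0 := by exact_mod_cast (by linear_combination -h1 : (h : ℂ) = 0)
    omega
  have hΓΘ : Γ ∉ Θ := fun h' => by
    have h1 := hΘdeg _ h'
    rw [hΓ1] at h1
    exact one_ne_zero (by linear_combination -h1 : (1 : ℂ) = 0)
  have hPΓ : P₁ ≠ Γ := fun h' => by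
    have h1 := congrArg (fun χ : Cfsg.IrrCharacter G => (χ : G → ℂ) 1) h'
    simp only [hΓ1] at h1
    rw [show (P₁ : G → ℂ) 1 = 1 from rfl] at h1
    have : h = 1 := by exact_mod_cast h1.symm
    omega
  set Kn := insert P₁ (insert Γ Θ) with hKn
  have hΘH : ∀ χ ∈ Θ, ∀ u ∈ H, u ≠ 1 → (χ : G → ℂ) u = 1 := by
    intro χ hχ u hu hu1
    obtain ⟨μ, hμ, rfl⟩ := Finset.mem_image.mp hχ
    rw [hιv μ hμ, hθH μ u hu hu1]
  have hfib : ∀ χ ∈ Θ, (M₁.filter fun μ => ι μ = χ).card ≤ 2 := by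
    intro χ hχ
    obtain ⟨μ, hμ, rfl⟩ := Finset.mem_image.mp hχ
    refine le_trans (Finset.card_le_card (t := {μ, μ⁻¹}) fun ν hν => ?_) Finset.card_le_two
    obtain ⟨hν1, hν2⟩ := Finset.mem_filter.mp hν
    have hv : θ ν = θ μ := by rw [← hιv ν hν1, ← hιv μ hμ, hν2]
    rw [Finset.mem_insert, Finset.mem_singleton]
    refine eq_or_inv_of_pointwise fun x => ?_
    by_cases hx : x = 1
    · simp [hx]
    have h1 := congrFun hv x
    rw [hθE ν x hx, hθE μ x hx, Units.val_inv_eq_inv_val, Units.val_inv_eq_inv_val] at h1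
    have hnz : (ν x : ℂ) ≠ 0 := Units.ne_zero _
    have hmz : (μ x : ℂ) ≠ 0 := Units.ne_zero _
    field_simp at h1
    have h2 : ((ν x : ℂ) - μ x) * ((ν x : ℂ) * μ x - 1) = 0 := by linear_combination h1
    rcases mul_eq_zero.mp h2 with h3 | h3
    · exact Or.inl (Units.ext (sub_eq_zero.mp h3))
    · exact Or.inr (eq_inv_of_mul_eq_one_left (Units.ext (by simpa using sub_eq_zero.mp h3)))
  have hΘcard : e - 1 ≤ 2 * Θ.card := by
    have := Finset.card_le_mul_card_image M₁ 2 hfib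
    rw [hM₁, Finset.card_erase_of_mem (Finset.mem_univ _), Finset.card_univ, hM] at this
    exact this
  -- other irreducibles vanish on the elements fixing two points
  have hvanE : ∀ x : stab₂ G a b, x ≠ 1 → ∀ χ : Cfsg.IrrCharacter G, χ ∉ Kn → (χ : G → ℂ) x = 0 := by
    intro x hx1 χ hχ
    have hx1' : (x : G) ≠ 1 := fun h' => hx1 (Subtype.ext h')
    have hcol := sum_norm_sq_irr (x : G)
    rw [hCE x x.2 hx1', ← Finset.sum_add_sum_compl Kn, hKn,
      Finset.sum_insert (by simp [hP1, hPΓ]), Finset.sum_insert hΓΘ] at hcol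
    have hp : ‖(P₁ : G → ℂ) x‖ ^ 2 = 1 := by simp [hP₁]
    have hg : ‖(Γ : G → ℂ) x‖ ^ 2 = 1 := by
      simp only [hΓ, Pi.sub_apply, hθE 1 x hx1, MonoidHom.one_apply, inv_one, Units.val_one]
      norm_num
    have hΘsum : (e : ℝ) - 2 ≤ ∑ ξ ∈ Θ, ‖(ξ : G → ℂ) x‖ ^ 2 := by
      have h1 : ∑ μ ∈ M₁, ‖θ μ x‖ ^ 2 ≤ 2 * ∑ ξ ∈ Θ, ‖(ξ : G → ℂ) x‖ ^ 2 := by
        rw [Finset.sum_congr rfl fun μ hμ => by rw [← hιv μ hμ],
          Finset.sum_comp (fun ξ : Cfsg.IrrCharacter G => ‖(ξ : G → ℂ) x‖ ^ 2) ι, Finset.mul_sum]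
        refine Finset.sum_le_sum fun ξ hξ => ?_
        rw [nsmul_eq_mul]
        exact mul_le_mul_of_nonneg_right (by exact_mod_cast hfib ξ hξ) (sq_nonneg _)
      have h2 : ∑ μ : stab₂ G a b →* ℂˣ, ‖θ μ x‖ ^ 2 = 2 * (e : ℝ) := by
        apply Complex.ofReal_injective
        push_cast
        have hx2 : x * x ≠ 1 := fun h' => hx1' (hsq x x.2 (congrArg Subtype.val h'))
        have hx2' : (x * x)⁻¹ ≠ 1 := fun h' => hx2 (inv_eq_one.mp h')
        have key : ∀ μ : stab₂ G a b →* ℂˣ, ((‖θ μ x‖ : ℝ) : ℂ) ^ 2 =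
            2 + (μ (x * x) : ℂ) + (μ (x * x)⁻¹ : ℂ) := by
          intro μ
          rw [← Complex.mul_conj', hθE μ x hx1, map_add, Units.val_inv_eq_inv_val]
          have hn1 : ‖(μ x : ℂ)‖ = 1 := Complex.norm_eq_one_of_pow_eq_one
            (by rw [← Units.val_pow_eq_pow_val, ← map_pow, pow_card_eq_one', map_one, Units.val_one])
            Nat.card_pos.ne'
          have hcm : conj (μ x : ℂ) = (μ x : ℂ)⁻¹ := (Complex.inv_eq_conj hn1).symm
          rw [map_inv₀, hcm, inv_inv, map_inv, map_mul, Units.val_inv_eq_inv_val, Units.val_mul]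
          have hmz : (μ x : ℂ) ≠ 0 := Units.ne_zero _
          field_simp
          ring
        rw [Finset.sum_congr rfl fun μ _ => key μ, Finset.sum_add_distrib, Finset.sum_add_distrib,
          sum_hom_apply hEcomm hx2, sum_hom_apply hEcomm hx2', Finset.sum_const, Finset.card_univ, hM,
          nsmul_eq_mul]
        ring
      rw [← Finset.add_sum_erase _ _ (Finset.mem_univ (1 : stab₂ G a b →* ℂˣ)), ← hM₁,
        hθE 1 x hx1] at h2
      simp only [MonoidHom.one_apply, inv_one, Units.val_one] at h2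
      norm_num at h2
      linarith
    have h0 : ∑ ξ ∈ Knᶜ, ‖(ξ : G → ℂ) x‖ ^ 2 = 0 := by
      refine le_antisymm ?_ (Finset.sum_nonneg fun ξ _ => sq_nonneg _)
      rw [hKn]
      linarith
    simpa using (Finset.sum_eq_zero_iff_of_nonneg (s := Knᶜ)
      (f := fun ξ : Cfsg.IrrCharacter G => ‖(ξ : G → ℂ) x‖ ^ 2) fun ξ _ => sq_nonneg _).mp h0 χ
      (Finset.mem_compl.mpr hχ)
  have hvan : ∀ χ : Cfsg.IrrCharacter G, χ ∉ Kn → ∀ g : (stabilizer G a), g ∉ K₀ → (χ : G → ℂ) g = 0 := by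
    intro χ hχ g hg
    obtain ⟨k, hk⟩ := houtside g hg
    rw [← isClassFunction_irr χ g k]
    exact hvanE ⟨_, hk⟩ (fun h' => hout' g hg k hk (congrArg Subtype.val h')) χ hχ
  -- integrality for characters vanishing outside the kernel
  have hint : ∀ χ : Cfsg.IrrCharacter G, χ ∉ Kn → ∃ q : ℤ,
      ∑ k : K₀, (χ : G → ℂ) ((k : (stabilizer G a)) : G) = (q : ℂ) * (h * e) := by
    intro χ hχ
    obtain ⟨q, hq⟩ := Cfsg.Lib.Coherence.inner_int
      (IsCharacter.isGeneralized (IsCharacter.restrict (isCharacter_of_irr χ.2) (stabilizer G a)))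
      (IsCharacter.isGeneralized (isCharacter_of_irr (isIrrCharacter_one (G := (stabilizer G a)))))
    refine ⟨q, ?_⟩
    rw [classInner_def, inv_mul_eq_iff_eq_mul₀ hLne, hcardL] at hq
    simp only [map_one, mul_one] at hq
    rw [← Finset.sum_subset (Finset.subset_univ (Finset.univ.filter fun g : (stabilizer G a) => g ∈ K₀))
      (fun g _ hg => hvan χ hχ g (by simpa using hg)),
      Finset.sum_subtype (Finset.univ.filter fun g : (stabilizer G a) => g ∈ K₀) (fun g => by simp) (p := fun g => g ∈ K₀)] at hq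
    rw [hq]; push_cast; ring
  -- the exceptional characters
  set S := Cfsg.inducedIrrAbove K₀ ⊥ with hS
  obtain ⟨-, σ, hσ', hσα'⟩ := hcoh
  have hσ : Cfsg.IsLinearIsometryOn (Cfsg.zspan S) σ := hσ'
  have hσα : ∀ α ∈ Cfsg.zspanOn S {1}ᶜ, σ α = Cfsg.indFun (stabilizer G a) α := hσα'
  have hSirr : ∀ φ ∈ S, Cfsg.IsIrrCharacter (stabilizer G a) φ := fun φ hφ => irr_above hC0 hφ
  have hSz : ∀ φ ∈ S, φ ∈ Cfsg.zspan S := fun φ hφ => Cfsg.Lib.Coherence.subset_zspan hφ
  have hSnc : ∀ φ, φ ∈ S ↔ Cfsg.Lib.FrobTI.NonConst K₀ φ := fun φ => by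
    rw [hS, above_eq hC0]; rfl
  haveI := isNilpotent_kernel hC0 (sub_ne_top H (stabilizer G a) hlt)
  obtain ⟨χ₁, hχ₁, hdχ₁⟩ := exists_deg_index (K := K₀) inferInstance (⊥ : Subgroup (stabilizer G a))
    (bot_lt_iff_ne_bot.mpr (sub_ne_bot H (stabilizer G a) hlt hH1))
  have hχ₁1 : χ₁ 1 = (e : ℂ) := by
    rw [IsCharacter.apply_one_eq_deg (isCharacter_of_irr (hSirr _ hχ₁)), hdχ₁, hindK]
  have htwo : ∃ φ ∈ S, φ ≠ χ₁ := by
    by_contra hno
    push Not at hno
    have hsum := sum_deg_sq (K := K₀) hC0 ⊥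
    have heq : (finite_above (K := K₀) (⊥ : Subgroup (stabilizer G a))).toFinset = {χ₁} :=
      Finset.eq_singleton_iff_unique_mem.mpr ⟨(Set.Finite.mem_toFinset _).mpr hχ₁,
        fun φ hφ => hno φ ((Set.Finite.mem_toFinset _).mp hφ)⟩
    rw [heq, Finset.sum_singleton, Subgroup.relIndex_bot_left, hcardK, hdχ₁, hindK, sq] at hsum
    have := Nat.eq_of_mul_eq_mul_left (by omega) hsum
    omega
  obtain ⟨χ₂, hχ₂, hχ₂ne⟩ := htwo
  obtain ⟨ε, hε, hζirr, hζinj⟩ := Cfsg.Agent.S1529.result (stabilizer G a) S hSirr ⟨χ₁, hχ₁, χ₂, hχ₂, hχ₂ne.symm⟩ σ hσ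
    fun α hα h1 => by
      rw [hσα α (Cfsg.Lib.Coherence.mem_one.mpr ⟨hα, h1⟩)]
      exact hτ1 α (Cfsg.Lib.Coherence.mem_one.mpr ⟨hα, h1⟩)
  have hε2 : ε * ε = 1 := by rcases hε with rfl | rfl <;> ring
  have hεc : conj ε = ε := by rcases hε with rfl | rfl <;> simp
  set c := σ χ₁ with hcdef
  -- `σ χ₁ - χ₁` is constant on the non-identity of the kernel
  have hconst := Cfsg.Lib.FrobTI.const_of_orth K₀ hC0 (f := fun g : (stabilizer G a) => c g - χ₁ g)
    (fun g k => by
      have h1 := isClassFunction_generalized (hσ.2.2.2 _ (hSz _ hχ₁)) (g : G) (k : G)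
      have h2 := isClassFunction_isChar (isCharacter_of_irr (hSirr _ hχ₁)) g k
      simp only [hcdef, Subgroup.coe_mul, Subgroup.coe_inv, h1, h2])
    ((hSnc _).mp hχ₁) (by
      intro χ ξ hχ hξ
      have hχS := (hSnc χ).mpr hχ
      have hξS := (hSnc ξ).mpr hξ
      have hd := (Cfsg.Lib.Coherence.mem_one (S := S) (f := (deg ξ : ℤ) • χ - (deg χ : ℤ) • ξ)).mpr
        ⟨(Submodule.span ℤ S).sub_mem ((Submodule.span ℤ S).smul_mem _ (hSz χ hχS))
          ((Submodule.span ℤ S).smul_mem _ (hSz ξ hξS)), by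
          simp [IsCharacter.apply_one_eq_deg (isCharacter_of_irr hχ.1),
            IsCharacter.apply_one_eq_deg (isCharacter_of_irr hξ.1), mul_comm]⟩
      have h1 := hσ.2.2.1 χ₁ (hSz _ hχ₁) _ hd.1
      rw [hσα _ hd, frobenius_reciprocity' (stabilizer G a) _ (isClassFunction_generalized (hσ.2.2.2 _ (hSz _ hχ₁)))] at h1
      simp only [classInner_sub_right, classInner_zsmul_right, Int.cast_natCast] at h1
      rw [show (fun g : (stabilizer G a) => c g - χ₁ g) = (fun g : (stabilizer G a) => c g) - χ₁ from rfl, classInner_sub_left,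
        classInner_sub_left, IsCharacter.apply_one_eq_deg (isCharacter_of_irr hχ.1),
        IsCharacter.apply_one_eq_deg (isCharacter_of_irr hξ.1)]
      linear_combination h1)
  obtain ⟨u₀, hu₀, hu₀1⟩ := (Subgroup.bot_or_exists_ne_one K₀).resolve_left (sub_ne_bot H (stabilizer G a) hlt hH1)
  set c₀ := ε * (c u₀ - χ₁ u₀) with hc₀
  have hσu : ∀ φ ∈ S, ∀ u : (stabilizer G a), u ∈ K₀ → u ≠ 1 → (e : ℂ) * (ε • σ φ) u = e * (ε * φ u) + φ 1 * c₀ := by
    intro φ hφ u hu hu1
    have hd := (Cfsg.Lib.Coherence.mem_one (S := S) (f := (e : ℤ) • φ - (deg φ : ℤ) • χ₁)).mpr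
      ⟨(Submodule.span ℤ S).sub_mem ((Submodule.span ℤ S).smul_mem _ (hSz φ hφ))
        ((Submodule.span ℤ S).smul_mem _ (hSz χ₁ hχ₁)), by
        simp [IsCharacter.apply_one_eq_deg (isCharacter_of_irr (hSirr φ hφ)), hχ₁1, mul_comm]⟩
    have hgood : Cfsg.IsClassFunction (stabilizer G a) ((e : ℤ) • φ - (deg φ : ℤ) • χ₁) := by
      intro g k
      simp [isClassFunction_isChar (isCharacter_of_irr (hSirr φ hφ)) g k,
        isClassFunction_isChar (isCharacter_of_irr (hSirr _ hχ₁)) g k]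
    have hsupp : ∀ g : (stabilizer G a), (g : G) ∉ H → ((e : ℤ) • φ - (deg φ : ℤ) • χ₁) g = 0 := by
      intro g hg
      simp [Cfsg.Lib.FrobTI.eq_zero_of_not_mem K₀ hC0 ((hSnc _).mp hφ) hg,
        Cfsg.Lib.FrobTI.eq_zero_of_not_mem K₀ hC0 ((hSnc _).mp hχ₁) hg]
    have h1 := indFun_TI_apply' (stabilizer G a) (H : Set G) hTI hgood hsupp u hu hu1
    have h2 := hσα _ hd
    rw [← h2, Cfsg.Lib.Coherence.map_sub' (Submodule.span ℤ S) hσ
      ((Submodule.span ℤ S).smul_mem _ (hSz φ hφ)) ((Submodule.span ℤ S).smul_mem _ (hSz χ₁ hχ₁)),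
      hσ.2.1 _ (hSz φ hφ), hσ.2.1 _ (hSz χ₁ hχ₁)] at h1
    simp at h1
    have h3 := hconst u hu hu1 u₀ hu₀ hu₀1
    rw [IsCharacter.apply_one_eq_deg (isCharacter_of_irr (hSirr φ hφ)), hc₀, Pi.smul_apply, smul_eq_mul]
    simp only [hcdef] at h3 ⊢
    linear_combination ε * h1 + ε * (deg φ : ℂ) * h3
  set ζ : S → Cfsg.IrrCharacter G := fun φ => ⟨ε • σ φ, hζirr φ φ.2⟩ with hζ
  haveI : Finite S := (finite_above (K := K₀) (⊥ : Subgroup (stabilizer G a))).to_subtype
  letI : Fintype S := Fintype.ofFinite _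
  have hζi : Injective ζ := fun φ ψ h' => Subtype.ext (hζinj φ φ.2 ψ ψ.2 (by
    have h1 := congrArg (fun χ : Cfsg.IrrCharacter G => ε • (χ : G → ℂ)) h'
    simpa [hζ, smul_smul, hε2] using h1))
  have hζKn : ∀ φ : S, ζ φ ∉ Kn := by
    intro φ hφ
    obtain ⟨ψ, hψ, hψne⟩ : ∃ ψ ∈ S, ψ ≠ (φ : (stabilizer G a) → ℂ) := by
      by_cases h' : χ₁ = φ
      exacts [⟨χ₂, hχ₂, h' ▸ hχ₂ne⟩, ⟨χ₁, hχ₁, h'⟩]
    obtain ⟨x, hx, y, hy, hx1, hy1, hxy⟩ :=
      Cfsg.Lib.FrobTI.exists_apply_ne K₀ hC0 ((hSnc _).mp φ.2) ((hSnc ψ).mp hψ) hψne.symm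
    have hxc : ((ζ φ : Cfsg.IrrCharacter G) : G → ℂ) x = ((ζ φ : Cfsg.IrrCharacter G) : G → ℂ) y := by
      have hx1' : (x : G) ≠ 1 := fun h' => hx1 (Subtype.ext h')
      have hy1' : (y : G) ≠ 1 := fun h' => hy1 (Subtype.ext h')
      rw [hKn, Finset.mem_insert, Finset.mem_insert] at hφ
      rcases hφ with h' | h' | h'
      · rw [h']
      · rw [h', hΓ]
        simp only [Pi.sub_apply, hθH 1 x hx hx1', hθH 1 y hy hy1']
      · rw [hΘH _ h' x hx hx1', hΘH _ h' y hy hy1']
    apply hxy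
    have h1 := hσu φ φ.2 x hx hx1
    have h2 := hσu φ φ.2 y hy hy1
    simp only [hζ] at hxc
    rw [hxc, h2] at h1
    have hez : (e : ℂ) * ε ≠ 0 := mul_ne_zero (by exact_mod_cast (by omega : e ≠ 0))
      (by rcases hε with rfl | rfl <;> norm_num)
    apply mul_left_cancel₀ hez
    linear_combination -h1
  set Exc := Finset.univ.image ζ with hExc
  set Oth := (Kn ∪ Exc)ᶜ with hOth
  have hExcKn : Disjoint Kn Exc := Finset.disjoint_left.mpr fun χ hχ hχ' => by
    obtain ⟨φ, -, rfl⟩ := Finset.mem_image.mp hχ'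
    exact hζKn φ hχ
  -- constant values of the other characters
  have hothconst : ∀ χ ∈ Oth, ∀ k ∈ K₀, k ≠ 1 → ∀ k' ∈ K₀, k' ≠ 1 →
      (χ : G → ℂ) ((k : (stabilizer G a)) : G) = (χ : G → ℂ) ((k' : (stabilizer G a)) : G) := by
    intro χ hχ
    refine Cfsg.Lib.FrobTI.const_of_orth K₀ hC0 (f := fun g : (stabilizer G a) => (χ : G → ℂ) g)
      (fun g k => isClassFunction_irr χ (g : G) (k : G)) ((hSnc _).mp hχ₁) fun φ ψ hφ hψ => ?_
    have hφS := (hSnc φ).mpr hφ
    have hψS := (hSnc ψ).mpr hψ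
    have hd := (Cfsg.Lib.Coherence.mem_one (S := S) (f := (deg ψ : ℤ) • φ - (deg φ : ℤ) • ψ)).mpr
      ⟨(Submodule.span ℤ S).sub_mem ((Submodule.span ℤ S).smul_mem _ (hSz φ hφS))
        ((Submodule.span ℤ S).smul_mem _ (hSz ψ hψS)), by
        simp [IsCharacter.apply_one_eq_deg (isCharacter_of_irr hφ.1),
          IsCharacter.apply_one_eq_deg (isCharacter_of_irr hψ.1), mul_comm]⟩
    have h0 : ∀ ξ, ∀ hξ : ξ ∈ S, Cfsg.classInner (χ : G → ℂ) (σ ξ) = 0 := by
      intro ξ hξ
      have h1 := classInner_irrChar χ.2 (ζ ⟨ξ, hξ⟩).2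
      rw [if_neg (fun h' => (Finset.mem_compl.mp hχ) (Finset.mem_union_right _
        (Finset.mem_image.mpr ⟨⟨ξ, hξ⟩, Finset.mem_univ _, (Subtype.ext h').symm⟩)))] at h1
      simp only [hζ, classInner_smul_right, hεc] at h1
      exact (mul_eq_zero.mp h1).resolve_left (by rcases hε with rfl | rfl <;> norm_num)
    have h1 := frobenius_reciprocity' (stabilizer G a) ((deg ψ : ℤ) • φ - (deg φ : ℤ) • ψ) (isClassFunction_irr χ)
    have h2 : Cfsg.indFun (stabilizer G a) ((deg ψ : ℤ) • φ - (deg φ : ℤ) • ψ) =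
        σ ((deg ψ : ℤ) • φ - (deg φ : ℤ) • ψ) := (hσα _ hd).symm
    rw [h2, Cfsg.Lib.Coherence.map_sub' (Submodule.span ℤ S) hσ
      ((Submodule.span ℤ S).smul_mem _ (hSz φ hφS)) ((Submodule.span ℤ S).smul_mem _ (hSz ψ hψS)),
      hσ.2.1 _ (hSz φ hφS), hσ.2.1 _ (hSz ψ hψS)] at h1
    simp only [classInner_sub_right, classInner_zsmul_right, Int.cast_natCast, h0 φ hφS, h0 ψ hψS,
      mul_zero, sub_zero] at h1
    rw [IsCharacter.apply_one_eq_deg (isCharacter_of_irr hφ.1),
      IsCharacter.apply_one_eq_deg (isCharacter_of_irr hψ.1)]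
    linear_combination -h1
  have hu₀ne : (u₀ : G) ≠ 1 := fun h' => hu₀1 (Subtype.ext h')
  have hratint : ∀ z : ℂ, IsIntegral ℤ z → (∃ m : ℤ, ((h : ℂ) - 1) * z = m) → ∃ n : ℤ, z = n := by
    intro z hz hm
    obtain ⟨m, hm⟩ := hm
    have hne : ((h : ℂ) - 1) ≠ 0 := by
      rw [sub_ne_zero]; exact_mod_cast (by omega : h ≠ 1)
    have hq : z = (((m : ℚ) / ((h : ℚ) - 1) : ℚ) : ℂ) := by
      push_cast
      rw [eq_div_iff hne, ← hm]; ring
    rw [hq] at hz
    obtain ⟨n, hn⟩ := int_of_isIntegral_rat hz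
    exact ⟨n, by rw [hq, hn, Rat.cast_intCast]⟩
  have hothint : ∀ χ ∈ Oth, ∃ n q : ℤ, (χ : G → ℂ) u₀ = n ∧
      (χ : G → ℂ) 1 + ((h : ℂ) - 1) * n = (q : ℂ) * (h * e) := by
    intro χ hχ
    obtain ⟨q, hq⟩ := hint χ fun h' => Finset.mem_compl.mp hχ (Finset.mem_union_left _ h')
    rw [← Finset.add_sum_erase _ _ (Finset.mem_univ (1 : K₀)),
      Finset.sum_congr rfl fun (k : K₀) hk => hothconst χ hχ (k : (stabilizer G a)) k.2
        (fun h' => (Finset.ne_of_mem_erase hk) (Subtype.ext h')) u₀ hu₀ hu₀1,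
      Finset.sum_const, Finset.card_erase_of_mem (Finset.mem_univ _), Finset.card_univ,
      ← Nat.card_eq_fintype_card, hcardK, nsmul_eq_mul, Nat.cast_sub (by omega : 1 ≤ h), Nat.cast_one] at hq
    obtain ⟨d, hd⟩ : ∃ d : ℕ, (χ : G → ℂ) 1 = d := ⟨_, irr_apply_one_eq_deg χ⟩
    simp only [OneMemClass.coe_one, hd] at hq ⊢
    obtain ⟨n, hn⟩ := hratint _ (IsCharacter.isIntegral (isCharacter_of_irr χ.2) _)
      ⟨q * (h * e) - d, by push_cast; linear_combination hq⟩
    exact ⟨n, q, hn, by rw [← hn]; exact hq⟩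
  choose! cO qO hcO hqO using hothint
  have hOne0 : ∀ χ ∈ Oth, cO χ ≠ 0 := by
    intro χ hχ h0
    have h1 := hqO χ hχ
    rw [h0, Int.cast_zero, mul_zero, add_zero] at h1
    obtain ⟨d, hd, hd'⟩ := IsIrrCharacter.apply_one χ.2
    rw [hd'] at h1
    have h2 : (d : ℤ) = qO χ * (h * e) := by exact_mod_cast h1
    have h3 := deg_sq_le χ
    rw [show deg (χ : G → ℂ) = d by apply Nat.cast_injective (R := ℂ); rw [← irr_apply_one_eq_deg, hd'],
      hcardG] at h3
    have h4 : h * e ≤ d := by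
      have hq1 : 1 ≤ qO χ := by
        by_contra h'
        have h5 : qO χ * ((h : ℤ) * e) ≤ 0 := mul_nonpos_of_nonpos_of_nonneg (by omega) (by positivity)
        omega
      have h5 : (1 : ℤ) * (h * e) ≤ qO χ * (h * e) := mul_le_mul_of_nonneg_right hq1 (by positivity)
      exact_mod_cast (by linarith : ((h : ℤ) * e) ≤ d)
    have h5 : h * e * (h * e) ≤ (h + 1) * (h * e) := le_trans (Nat.mul_le_mul h4 h4) (by rwa [← sq])
    have h6 := Nat.le_of_mul_le_mul_right h5 (Nat.mul_pos (by omega) (by omega))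
    nlinarith
  -- counting classes
  have hcount : e + 1 ≤ 2 + Θ.card + Oth.card := by
    letI : Fintype (ConjClasses G) := Fintype.ofFinite _
    letI : Fintype (ConjClasses (stabilizer G a)) := Fintype.ofFinite _
    set CH := (Finset.univ.filter fun g : (stabilizer G a) => g ∈ K₀ ∧ g ≠ 1).image ConjClasses.mk with hCH
    set CE := ((Finset.univ.erase (1 : stab₂ G a b)).image fun x : stab₂ G a b =>
      ConjClasses.mk (⟨x, x.2.1⟩ : (stabilizer G a))) with hCE'
    have hL1 : Fintype.card (ConjClasses (stabilizer G a)) ≤ 1 + CH.card + (e - 1) := by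
      have hsub : (Finset.univ : Finset (ConjClasses (stabilizer G a))) ⊆ {ConjClasses.mk 1} ∪ CH ∪ CE := by
        intro C _
        obtain ⟨g, rfl⟩ := ConjClasses.exists_rep C
        by_cases hg : g ∈ K₀
        · by_cases hg1 : g = 1
          · simp [hg1]
          · exact Finset.mem_union_left _ (Finset.mem_union_right _ (Finset.mem_image.mpr
              ⟨g, Finset.mem_filter.mpr ⟨Finset.mem_univ _, hg, hg1⟩, rfl⟩))
        · obtain ⟨k, hk⟩ := houtside g hg
          refine Finset.mem_union_right _ (Finset.mem_image.mpr ⟨⟨_, hk⟩, Finset.mem_erase.mpr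
            ⟨fun h' => hout' g hg k hk (congrArg Subtype.val h'), Finset.mem_univ _⟩, ?_⟩)
          exact (ConjClasses.mk_eq_mk_iff_isConj.mpr (isConj_iff.mpr ⟨k, rfl⟩)).symm
      have hle := Finset.card_le_card hsub
      have hCEc : CE.card ≤ e - 1 := by
        refine Finset.card_image_le.trans (le_of_eq ?_)
        rw [Finset.card_erase_of_mem (Finset.mem_univ _), Finset.card_univ, ← Nat.card_eq_fintype_card, he]
      rw [Finset.card_univ] at hle
      have := Finset.card_union_le ({ConjClasses.mk 1} ∪ CH) CE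
      have := Finset.card_union_le {ConjClasses.mk (1 : (stabilizer G a))} CH
      rw [Finset.card_singleton] at this
      omega
    have hL2 : Fintype.card (ConjClasses (stabilizer G a)) = Fintype.card S + e := by
      have h1 := card_irrCharacter (G := (stabilizer G a))
      rw [Nat.card_eq_fintype_card, Nat.card_eq_fintype_card] at h1
      rw [← h1, ← Finset.card_univ, ← Finset.card_filter_add_card_filter_not
        (s := (Finset.univ : Finset (Cfsg.IrrCharacter (stabilizer G a)))) (fun χ => (χ : (stabilizer G a) → ℂ) ∈ S)]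
      congr 1
      · rw [← Finset.card_univ]
        exact Finset.card_bij (fun χ hχ => (⟨χ, (Finset.mem_filter.mp hχ).2⟩ : S))
          (fun _ _ => Finset.mem_univ _) (fun χ _ ψ _ h' => Subtype.ext (congrArg (fun s : S => (s : (stabilizer G a) → ℂ)) h'))
          fun φ _ => ⟨⟨φ, hSirr φ φ.2⟩, Finset.mem_filter.mpr ⟨Finset.mem_univ _, φ.2⟩, rfl⟩
      · have h2 := sum_deg_sq_above K₀
        rw [hindK] at h2
        rw [Finset.filter_congr (q := fun χ : Cfsg.IrrCharacter (stabilizer G a) => ∀ k ∈ K₀, (χ : (stabilizer G a) → ℂ) k = (χ : (stabilizer G a) → ℂ) 1)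
          (fun χ _ => by
            rw [hSnc]
            constructor
            · intro h' k hk; exact Cfsg.Lib.FrobTI.apply_eq_of_not K₀ χ.2 h' hk
            · rintro h' ⟨-, k, hk, hne⟩; exact hne (h' k hk))]
        rw [← h2, Finset.card_eq_sum_ones]
        refine Finset.sum_congr rfl fun χ hχ => ?_
        have hb := deg_sq_le_index χ.2 ⊤ fun z _ g => (Finset.mem_filter.mp hχ).2 _ (by
          have hcm : π (z * g * z⁻¹ * g⁻¹) = 1 := by
            rw [map_mul, map_mul, map_mul, map_inv, map_inv, hEcomm (π z) (π g)]; group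
          by_contra hout
          obtain ⟨k, hk⟩ := houtside _ hout
          apply hout' _ hout k hk
          rw [← hπE _ hk, map_mul, map_mul, hcm, map_inv, mul_one, mul_inv_cancel, OneMemClass.coe_one])
        rw [Subgroup.index_top] at hb
        have hp := deg_irr_pos χ
        nlinarith
    have hG : e + 1 + CH.card ≤ Fintype.card (ConjClasses G) := by
      have hS0884 := classes_avoiding_kernel hZ hab hh he hodd (by omega) hHa hHcard hHfix
      rw [Nat.card_eq_fintype_card, Fintype.card_subtype] at hS0884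
      set Av := Finset.univ.filter fun C : ConjClasses G => ∀ g : G, ConjClasses.mk g = C → g ∉ H
      set f : ConjClasses (stabilizer G a) → ConjClasses G := ConjClasses.map (stabilizer G a).subtype
      have hinj : Set.InjOn f CH := by
        intro C hC' D hD' hCD
        obtain ⟨x, hx, rfl⟩ := Finset.mem_image.mp hC'
        obtain ⟨y, hy, rfl⟩ := Finset.mem_image.mp hD'
        obtain ⟨-, hx0, hx1⟩ := Finset.mem_filter.mp hx
        obtain ⟨-, hy0, -⟩ := Finset.mem_filter.mp hy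
        obtain ⟨g, hg⟩ := isConj_iff.mp (ConjClasses.mk_eq_mk_iff_isConj.mp hCD :
          IsConj (x : G) (y : G))
        have hgL : g ∈ (stabilizer G a) := by
          by_contra h'
          exact hx1 (Subtype.ext (hTI g h' x hx0 (by rw [hg]; exact hy0)))
        exact ConjClasses.mk_eq_mk_iff_isConj.mpr (isConj_iff.mpr ⟨⟨g, hgL⟩, Subtype.ext hg⟩)
      have hd1 : ∀ C ∈ CH.image f, C ∉ Av := by
        intro C hC' hav
        obtain ⟨D, hD, rfl⟩ := Finset.mem_image.mp hC'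
        obtain ⟨x, hx, rfl⟩ := Finset.mem_image.mp hD
        exact (Finset.mem_filter.mp hav).2 x rfl (Finset.mem_filter.mp hx).2.1
      have h1 : ConjClasses.mk (1 : G) ∉ Av := fun h' => (Finset.mem_filter.mp h').2 1 rfl H.one_mem
      have h2 : ConjClasses.mk (1 : G) ∉ CH.image f := by
        intro h'
        obtain ⟨D, hD, hDe⟩ := Finset.mem_image.mp h'
        obtain ⟨x, hx, rfl⟩ := Finset.mem_image.mp hD
        obtain ⟨g, hg⟩ := isConj_iff.mp (ConjClasses.mk_eq_mk_iff_isConj.mp hDe : IsConj (x : G) 1)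
        exact (Finset.mem_filter.mp hx).2.2 (Subtype.ext (conj_eq_one_iff.mp hg))
      have hle := Finset.card_le_univ (insert (ConjClasses.mk (1 : G)) (Av ∪ CH.image f))
      rw [Finset.card_insert_of_notMem (by simp [h1]; exact fun D hD hh' => h2 (Finset.mem_image.mpr ⟨D, hD, hh'⟩)),
        Finset.card_union_of_disjoint (Finset.disjoint_left.mpr fun C hC' hC'' => hd1 C hC'' hC'),
        Finset.card_image_of_injOn hinj] at hle
      omega
    have h1 := card_irrCharacter (G := G)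
    rw [Nat.card_eq_fintype_card, Nat.card_eq_fintype_card] at h1
    have h2 : Fintype.card (Cfsg.IrrCharacter G) = (2 + Θ.card) + Fintype.card S + Oth.card := by
      rw [← Finset.card_add_card_compl (Kn ∪ Exc), Finset.card_union_of_disjoint hExcKn, hKn,
        Finset.card_insert_of_notMem (by simp [hP1, hPΓ]), Finset.card_insert_of_notMem hΓΘ, hExc,
        Finset.card_image_of_injective _ hζi, Finset.card_univ, hOth]
      ring
    omega
  -- the constant
  have hζ1 : ζ ⟨χ₁, hχ₁⟩ ∉ Kn := hζKn _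
  obtain ⟨D, hD⟩ : ∃ D : ℕ, ((ζ ⟨χ₁, hχ₁⟩ : Cfsg.IrrCharacter G) : G → ℂ) 1 = D :=
    ⟨_, irr_apply_one_eq_deg _⟩
  have hχ₁sum : ∑ k : K₀, χ₁ (k : (stabilizer G a)) = 0 :=
    Cfsg.Lib.FrobTI.sum_eq_zero K₀ hC0 ((hSnc _).mp hχ₁)
  obtain ⟨q, hq⟩ := hint _ hζ1
  have hq' : (D : ℂ) - ε * e + ((h : ℂ) - 1) * c₀ = (q : ℂ) * (h * e) := by
    rw [← Finset.add_sum_erase _ _ (Finset.mem_univ (1 : K₀))] at hq
    have hs : ∀ k ∈ Finset.univ.erase (1 : K₀),
        ((ζ ⟨χ₁, hχ₁⟩ : Cfsg.IrrCharacter G) : G → ℂ) ((k : (stabilizer G a)) : G) = ε * χ₁ k + c₀ := by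
      intro k hk
      have h1 := hσu χ₁ hχ₁ k k.2 fun h' => (Finset.ne_of_mem_erase hk) (Subtype.ext h')
      apply mul_left_cancel₀ (show (e : ℂ) ≠ 0 by exact_mod_cast (by omega : e ≠ 0))
      rw [hχ₁1] at h1
      simp only [hζ]
      linear_combination h1
    rw [Finset.sum_congr rfl hs, Finset.sum_add_distrib, ← Finset.mul_sum, Finset.sum_const,
      Finset.card_erase_of_mem (Finset.mem_univ _), Finset.card_univ, ← Nat.card_eq_fintype_card, hcardK,
      nsmul_eq_mul, Nat.cast_sub (by omega : 1 ≤ h), Nat.cast_one] at hq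
    rw [← Finset.add_sum_erase _ _ (Finset.mem_univ (1 : K₀))] at hχ₁sum
    simp only [OneMemClass.coe_one, hχ₁1] at hχ₁sum
    simp only [OneMemClass.coe_one] at hq
    rw [hD] at hq
    linear_combination hq - ε * hχ₁sum
  obtain ⟨c', hc'⟩ := hratint c₀ (by
      have hi1 := IsCharacter.isIntegral (isCharacter_of_irr (ζ ⟨χ₁, hχ₁⟩).2) (u₀ : G)
      have hi2 := IsCharacter.isIntegral (isCharacter_of_irr (hSirr _ hχ₁)) u₀
      have hεi : IsIntegral ℤ ε := by
        rcases hε with rfl | rfl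
        exacts [isIntegral_one, isIntegral_one.neg]
      rw [hc₀, mul_sub]
      exact hi1.sub (hεi.mul hi2))
    (by
      rcases hε with rfl | rfl
      · exact ⟨q * (h * e) - D + e, by push_cast; linear_combination hq'⟩
      · exact ⟨q * (h * e) - D - e, by push_cast; linear_combination hq'⟩)
  -- column at a non-identity element of the kernel
  have hc'0 : c' = 0 := by
    have hcol := second_orthogonality (u₀ : G) (u₀ : G)
    rw [if_pos (IsConj.refl _), ← Finset.sum_add_sum_compl (Kn ∪ Exc), Finset.sum_union hExcKn,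
      hKn, Finset.sum_insert (by simp [hP1, hPΓ]), Finset.sum_insert hΓΘ, hExc,
      Finset.sum_image (fun x _ y _ h' => hζi h')] at hcol
    have hΘs : ∑ χ ∈ Θ, (χ : G → ℂ) u₀ * conj ((χ : G → ℂ) u₀) = (Θ.card : ℂ) := by
      rw [Finset.sum_congr rfl fun χ hχ => by rw [hΘH χ hχ u₀ hu₀ hu₀ne, map_one, mul_one]]
      simp
    have hOs : ∑ χ ∈ Oth, (χ : G → ℂ) u₀ * conj ((χ : G → ℂ) u₀) = ((∑ χ ∈ Oth, cO χ ^ 2 : ℤ) : ℂ) := by
      push_cast
      exact Finset.sum_congr rfl fun χ hχ => by rw [hcO χ hχ]; simp [sq]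
    have hCG : Nat.card (centralizer ({(u₀ : G)} : Set G)) = Nat.card (centralizer ({u₀} : Set (stabilizer G a))) := by
      refine Nat.card_congr ⟨fun g => ⟨⟨g, hHa (hC _ hu₀ hu₀ne g.2)⟩, mem_centralizer_singleton_iff.mpr
          (Subtype.ext (mem_centralizer_singleton_iff.mp g.2))⟩,
        fun g => ⟨(g : (stabilizer G a)), mem_centralizer_singleton_iff.mpr
          (congrArg Subtype.val (mem_centralizer_singleton_iff.mp g.2))⟩, fun g => rfl, fun g => rfl⟩
    have hLcol := second_orthogonality u₀ u₀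
    rw [if_pos (IsConj.refl _), ← Finset.sum_filter_add_sum_filter_not Finset.univ
      (fun χ : Cfsg.IrrCharacter (stabilizer G a) => Cfsg.Lib.FrobTI.NonConst K₀ (χ : (stabilizer G a) → ℂ))] at hLcol
    have hNS : ∀ F : ((stabilizer G a) → ℂ) → ℂ, ∑ φ : S, F φ = ∑ χ ∈ Finset.univ.filter
        (fun χ : Cfsg.IrrCharacter (stabilizer G a) => Cfsg.Lib.FrobTI.NonConst K₀ (χ : (stabilizer G a) → ℂ)), F χ := by
      intro F
      refine Finset.sum_bij' (fun φ _ => (⟨φ, hSirr φ φ.2⟩ : Cfsg.IrrCharacter (stabilizer G a)))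
        (fun χ hχ => (⟨χ, (hSnc _).mpr (Finset.mem_filter.mp hχ).2⟩ : S))
        (fun φ _ => Finset.mem_filter.mpr ⟨Finset.mem_univ _, (hSnc _).mp φ.2⟩)
        (fun _ _ => Finset.mem_univ _) (fun _ _ => rfl) (fun _ _ => rfl) fun _ _ => rfl
    have hrest : ∑ χ ∈ Finset.univ.filter (fun χ : Cfsg.IrrCharacter (stabilizer G a) => ¬ Cfsg.Lib.FrobTI.NonConst K₀ (χ : (stabilizer G a) → ℂ)),
        (χ : (stabilizer G a) → ℂ) u₀ * conj ((χ : (stabilizer G a) → ℂ) u₀) = (e : ℂ) := by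
      have h2 := sum_deg_sq_above K₀
      rw [hindK] at h2
      rw [← h2, Nat.cast_sum]
      refine Finset.sum_congr (Finset.filter_congr fun χ _ => ?_) fun χ hχ => ?_
      · constructor
        · intro h' k hk; exact Cfsg.Lib.FrobTI.apply_eq_of_not K₀ χ.2 h' hk
        · rintro h' ⟨-, k, hk, hne⟩; exact hne (h' k hk)
      · rw [(Finset.mem_filter.mp hχ).2 u₀ hu₀, irr_apply_one_eq_deg, Complex.conj_natCast, Nat.cast_pow, sq]
    rw [hrest, ← hCG, ← hNS (fun φ => φ u₀ * conj (φ u₀))] at hLcol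
    obtain ⟨hd1, hd2⟩ := Cfsg.Lib.FrobTI.sum_deg_data K₀ hC0
    have hd2' := hd2 u₀ hu₀ hu₀1
    rw [← hNS (fun φ => φ 1 ^ 2), hindK, hcardK] at hd1
    rw [← hNS (fun φ => φ 1 * φ u₀), hindK] at hd2'
    have hd3 : ∑ φ : S, (φ : (stabilizer G a) → ℂ) 1 * conj ((φ : (stabilizer G a) → ℂ) u₀) = -(e : ℂ) := by
      have := congrArg conj hd2'
      rw [map_sum, map_neg, Complex.conj_natCast] at this
      rw [← this]
      refine Finset.sum_congr rfl fun φ _ => ?_
      rw [map_mul, Cfsg.Lib.FrobTI.conj_apply_one (isCharacter_of_irr (hSirr φ φ.2))]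
    have hEs : (e : ℂ) ^ 2 * ∑ φ : S, ((ζ φ : Cfsg.IrrCharacter G) : G → ℂ) u₀ *
        conj (((ζ φ : Cfsg.IrrCharacter G) : G → ℂ) u₀) =
        (e : ℂ) ^ 2 * (∑ φ : S, (φ : (stabilizer G a) → ℂ) u₀ * conj ((φ : (stabilizer G a) → ℂ) u₀)) +
          (ε * c' * e) * (∑ φ : S, (φ : (stabilizer G a) → ℂ) 1 * (φ : (stabilizer G a) → ℂ) u₀) +
          (ε * c' * e) * (∑ φ : S, (φ : (stabilizer G a) → ℂ) 1 * conj ((φ : (stabilizer G a) → ℂ) u₀)) +
          (c' : ℂ) ^ 2 * ∑ φ : S, (φ : (stabilizer G a) → ℂ) 1 ^ 2 := by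
      simp only [Finset.mul_sum, ← Finset.sum_add_distrib]
      refine Finset.sum_congr rfl fun φ _ => ?_
      have h1 := hσu φ φ.2 u₀ hu₀ hu₀1
      have h2 := congrArg conj h1
      rw [map_mul, map_add, map_mul, map_mul, map_mul, Complex.conj_natCast, hεc, hc', map_intCast,
        Cfsg.Lib.FrobTI.conj_apply_one (isCharacter_of_irr (hSirr φ φ.2))] at h2
      rw [hc'] at h1
      simp only [hζ]
      rw [show (e : ℂ) ^ 2 * ((ε • σ (φ : (stabilizer G a) → ℂ)) u₀ * conj ((ε • σ (φ : (stabilizer G a) → ℂ)) u₀)) =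
        ((e : ℂ) * (ε • σ (φ : (stabilizer G a) → ℂ)) u₀) * ((e : ℂ) * conj ((ε • σ (φ : (stabilizer G a) → ℂ)) u₀)) by ring, h1, h2]
      linear_combination ((e : ℂ) ^ 2 * (φ : (stabilizer G a) → ℂ) u₀ * conj ((φ : (stabilizer G a) → ℂ) u₀)) * hε2
    have hP : (P₁ : G → ℂ) u₀ * conj ((P₁ : G → ℂ) u₀) = 1 := by simp [hP₁]
    have hG0 : (Γ : G → ℂ) u₀ * conj ((Γ : G → ℂ) u₀) = 0 := by
      simp [hΓ, hθH 1 (u₀ : G) hu₀ hu₀ne]
    rw [hP, hG0, hΘs, hOs] at hcol
    have hint' : (e : ℤ) * (1 + Θ.card + ∑ χ ∈ Oth, cO χ ^ 2) * e + c' ^ 2 * (e * ((h : ℤ) - 1)) =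
        (e : ℤ) ^ 2 * e + 2 * (if ε = 1 then 1 else -1) * c' * e * e := by
      apply Int.cast_injective (α := ℂ)
      push_cast
      have hεv : ((if ε = 1 then (1 : ℤ) else -1 : ℤ) : ℂ) = ε := by
        rcases hε with rfl | rfl <;> norm_num
      push_cast at hεv
      rw [hεv]
      rw [hd2', hd3, hd1] at hEs
      push_cast at hcol
      linear_combination (e : ℂ) ^ 2 * hcol - hEs - (e : ℂ) ^ 2 * hLcol
    have hOge : (Oth.card : ℤ) ≤ ∑ χ ∈ Oth, cO χ ^ 2 := by
      rw [Finset.card_eq_sum_ones, Nat.cast_sum]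
      exact Finset.sum_le_sum fun χ hχ => by
        have := Int.one_le_abs (hOne0 χ hχ)
        rw [Nat.cast_one, ← sq_abs]
        nlinarith
    set s : ℤ := if ε = 1 then 1 else -1 with hs
    have hsb : s = 1 ∨ s = -1 := by rw [hs]; split_ifs <;> simp
    have hx : (e : ℤ) * e * (1 + Θ.card + Oth.card - e) + e * (c' ^ 2 * ((h : ℤ) - 1) - 2 * s * c' * e) ≤ 0 := by
      nlinarith [mul_le_mul_of_nonneg_left hOge (show (0 : ℤ) ≤ (e : ℤ) * e by positivity)]
    have hcnt : (0 : ℤ) ≤ 1 + Θ.card + Oth.card - e := by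
      have : ((e + 1 : ℕ) : ℤ) ≤ ((2 + Θ.card + Oth.card : ℕ) : ℤ) := by exact_mod_cast hcount
      push_cast at this
      linarith
    have hy : c' ^ 2 * ((h : ℤ) - 1) - 2 * s * c' * e ≤ 0 := by
      by_contra h'
      nlinarith [mul_nonneg (show (0 : ℤ) ≤ (e : ℤ) * e by positivity) hcnt,
        mul_pos (show (0 : ℤ) < e by omega) (not_le.mp h')]
    by_contra hne
    have habs := Int.one_le_abs hne
    have hhz : 2 * (e : ℤ) + 1 ≤ (h : ℤ) - 1 := by omega
    have hc2 : |c'| ≤ c' ^ 2 := by rw [← sq_abs]; nlinarith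
    have hsc : s * c' ≤ |c'| := by
      rcases hsb with h' | h' <;> rw [h']
      · simpa using le_abs_self c'
      · simpa using neg_le_abs c'
    nlinarith [mul_le_mul_of_nonneg_left hhz (sq_nonneg c'), mul_le_mul_of_nonneg_right hsc (show (0 : ℤ) ≤ e by omega),
      mul_le_mul_of_nonneg_right hc2 (show (0 : ℤ) ≤ e by omega)]
  rw [hc', hc'0, Int.cast_zero, mul_zero, add_zero] at hq'
  -- the degree
  have hD2 : D ^ 2 ≤ (h + 1) * (h * e) := by
    have h1 := deg_sq_le (ζ ⟨χ₁, hχ₁⟩)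
    rwa [hcardG, show deg ((ζ ⟨χ₁, hχ₁⟩ : Cfsg.IrrCharacter G) : G → ℂ) = D by
      apply Nat.cast_injective (R := ℂ); rw [← irr_apply_one_eq_deg, hD]] at h1
  have hDpos : 0 < D := by
    obtain ⟨d, hd0, hd⟩ := IsIrrCharacter.apply_one (ζ ⟨χ₁, hχ₁⟩).2
    rw [hD] at hd
    exact (Nat.cast_injective hd : D = d) ▸ hd0
  have hε1 : ε = 1 ∧ D = e := by
    have key := degree_eq (e := e) (h := h) (D := D) (q := q) he3 (by omega) hD2 hDpos
    rcases hε with rfl | rfl
    · obtain ⟨-, h2⟩ := key 1 (Or.inl rfl) (by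
        apply Int.cast_injective (α := ℂ); push_cast; linear_combination hq')
      exact ⟨rfl, by exact_mod_cast h2⟩
    · obtain ⟨h2, -⟩ := key (-1) (Or.inr rfl) (by
        apply Int.cast_injective (α := ℂ); push_cast; linear_combination hq')
      norm_num at h2
  obtain ⟨rfl, rfl⟩ := hε1
  -- the square of the exceptional character
  set z : G → ℂ := ((ζ ⟨χ₁, hχ₁⟩ : Cfsg.IrrCharacter G) : G → ℂ) with hz
  set ψ : G → ℂ := z * fun g => conj (z g) with hψdef
  have hzL : ∀ g : (stabilizer G a), z g = χ₁ g := by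
    intro g
    by_cases hg : g ∈ K₀
    · by_cases hg1 : g = 1
      · subst hg1
        rw [OneMemClass.coe_one, hD, hχ₁1]
      · have h1 := hσu χ₁ hχ₁ g hg hg1
        rw [hc', hc'0, Int.cast_zero, mul_zero, add_zero, one_mul] at h1
        exact mul_left_cancel₀ (show (D : ℂ) ≠ 0 by exact_mod_cast (by omega : D ≠ 0)) h1
    · rw [hz, hvan _ hζ1 g hg, Cfsg.Lib.FrobTI.eq_zero_of_not_mem K₀ hC0 ((hSnc _).mp hχ₁) hg]
  have hzc := isCharacter_of_irr (ζ ⟨χ₁, hχ₁⟩).2
  have hψ : Cfsg.IsCharacter G ψ := IsCharacter.mul hzc (IsCharacter.conjugate hzc)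
  obtain ⟨m, hm⟩ := IsCharacter.exists_decomp hψ
  have hmult : ∀ χ ∈ insert P₁ Θ, (1 : ℕ) ≤ m χ := by
    intro χ hχ
    have hin : Cfsg.classInner ψ (χ : G → ℂ) = (m χ : ℂ) := by
      rw [hm]
      simp only [← Nat.cast_smul_eq_nsmul ℂ]
      exact classInner_irrSum (fun ξ => (m ξ : ℂ)) χ
    suffices h1 : Cfsg.classInner ψ (χ : G → ℂ) = 1 by
      rw [hin] at h1
      exact le_of_eq (by exact_mod_cast h1.symm)
    rcases Finset.mem_insert.mp hχ with rfl | hχ
    · rw [classInner_def]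
      have h1 := classInner_self_irr (ζ ⟨χ₁, hχ₁⟩).2
      rw [classInner_def] at h1
      simpa [hψdef, hP₁, hz] using h1
    · obtain ⟨μ, hμ, rfl⟩ := Finset.mem_image.mp hχ
      rw [hιv μ hμ, hθdef, ← classInner_conj_symm]
      simp only
      rw [frobenius_reciprocity (stabilizer G a) (lam μ) (isClassFunction_isChar hψ)]
      have h1 := classInner_self_irr (hSirr _ hχ₁)
      rw [classInner_def] at h1 ⊢
      rw [Finset.sum_congr rfl fun (g : (stabilizer G a)) _ => show lam μ g * conj (ψ g) = χ₁ g * conj (χ₁ g) by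
        simp only [hψdef, Pi.mul_apply, hzL, map_mul, Complex.conj_conj]
        by_cases hg : g ∈ K₀
        · rw [hlamH μ g hg]; ring
        · rw [Cfsg.Lib.FrobTI.eq_zero_of_not_mem K₀ hC0 ((hSnc _).mp hχ₁) hg]; simp,
        h1, map_one]
  have hψ1 : deg ψ = D ^ 2 := by
    apply Nat.cast_injective (R := ℂ)
    rw [← IsCharacter.apply_one_eq_deg hψ, hψdef]
    simp only [Pi.mul_apply]
    rw [hD]
    simp [sq]
  have hsum : D ^ 2 = ∑ χ : Cfsg.IrrCharacter G, m χ * deg (χ : G → ℂ) := by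
    apply Nat.cast_injective (R := ℂ)
    rw [← hψ1, ← IsCharacter.apply_one_eq_deg hψ]
    conv_lhs => rw [hm]
    push_cast
    simp only [Finset.sum_apply, nsmul_eq_mul, Pi.mul_apply, Pi.natCast_apply, irr_apply_one_eq_deg]
  have hge : 1 + Θ.card * (h + 1) ≤ D ^ 2 := by
    rw [hsum]
    refine le_trans ?_ (Finset.sum_le_sum_of_subset (Finset.subset_univ (insert P₁ Θ)))
    rw [Finset.sum_insert hP1]
    refine Nat.add_le_add ?_ ?_
    · have h1 : deg (P₁ : G → ℂ) = 1 := by simp [hP₁, deg]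
      rw [h1, mul_one]
      exact hmult _ (Finset.mem_insert_self _ _)
    · rw [← smul_eq_mul, ← Finset.sum_const]
      refine Finset.sum_le_sum fun χ hχ => ?_
      have h1 : deg (χ : G → ℂ) = h + 1 := by
        apply Nat.cast_injective (R := ℂ)
        rw [← irr_apply_one_eq_deg, hΘdeg χ hχ]; push_cast; ring
      rw [h1]
      exact Nat.le_mul_of_pos_left _ (hmult χ (Finset.mem_insert_of_mem hχ))
  obtain ⟨k, hk⟩ := hodd
  have h1 : k * (h + 1) ≤ Θ.card * (h + 1) := Nat.mul_le_mul_right _ (by omega)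
  have h2 : k * (2 * D + 3) ≤ k * (h + 1) := Nat.mul_le_mul_left _ (by omega)
  nlinarith

end Cfsg.Lib.OddChar.Zassenhaus
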