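import Cfsg.Agent.OddChar.Zassenhaus.Basic
import Cfsg.Agent.InvolCalc.Counting
import Cfsg.Agent.Frobenius.Kernel
import Cfsg.Agent.Chars.Core

/-!
# Involutions, classes and induced linear characters of odd Zassenhaus groups
-/

namespace Cfsg.Lib.OddChar.Zassenhaus

open Subgroup MulAction
open scoped ComplexConjugate Pointwise

universe u v

set_option linter.unusedSectionVars false

variable {G : Type u} {Ω : Type v} [Group G] [Finite G] [MulAction G Ω] [Fintype Ω]

theorem exists_two_fixed_point_free (hZ : Cfsg.IsZassenhausGroup G Ω) {a b : Ω} (hab : a ≠ b)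
    (hodd : Odd (Nat.card (stab₂ G a b))) :
    ∃ x y : G, (∀ c : Ω, x • c ≠ c) ∧ (∀ c : Ω, y • c ≠ c) ∧ ¬ IsConj x y := by
  classical
  have := Fintype.ofFinite G
  obtain ⟨h, hh⟩ : ∃ h, Fintype.card Ω = h + 1 :=
    ⟨_, (Nat.sub_add_cancel (Fintype.card_pos_iff.mpr ⟨a⟩)).symm⟩
  have hh2 := two_le hZ hab hh
  obtain ⟨e, he⟩ : ∃ e, Nat.card (stab₂ G a b) = e := ⟨_, rfl⟩
  obtain ⟨hN2, hN1, hN0⟩ := counts hZ hab hh he hh2
  have he3 : 3 ≤ e := by
    have h1 := stab₂_ne_bot hZ hab
    rw [he] at h1 hodd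
    obtain ⟨k, hk⟩ := hodd
    omega
  set X := Finset.univ.filter fun g : G => nfix (Ω := Ω) g = 0 with hX
  have hmem : ∀ g, g ∈ X ↔ ∀ c : Ω, g • c ≠ c := fun g => by
    simp [hX, nfix, Finset.filter_eq_empty_iff]
  -- the number of fixed-point-free elements
  have hXh : 2 * X.card + 2 * (h * h) = h * ((h + 1) * (e + 1)) := by nlinarith
  obtain ⟨x, hx⟩ : X.Nonempty := by
    rw [← Finset.card_pos]
    by_contra hcon
    have h0 : X.card = 0 := by omega
    nlinarith
  by_contra hall
  push Not at hall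
  have hclass : Nat.card {g : G // IsConj x g} = X.card := by
    rw [Nat.card_eq_fintype_card, Fintype.card_subtype]
    congr 1
    ext g
    simp only [Finset.mem_filter, Finset.mem_univ, true_and]
    refine ⟨fun hg => ?_, fun hg => hall x g ((hmem x).mp hx) ((hmem g).mp hg)⟩
    obtain ⟨k, rfl⟩ := isConj_iff.mp hg
    rw [hX, Finset.mem_filter, nfix_conj]
    exact ⟨Finset.mem_univ _, (Finset.mem_filter.mp hx).2⟩
  have hdvd : X.card ∣ Nat.card G := by
    rw [← hclass, ← Cfsg.Lib.Chars.card_isConj_mul x]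
    exact Dvd.intro _ rfl
  rw [card_group hZ hab hh he] at hdvd
  obtain ⟨r, hr⟩ := hdvd
  have hXpos : 0 < X.card := Finset.card_pos.mpr ⟨x, hx⟩
  rcases Nat.lt_or_ge r 3 with hr3 | hr3
  · interval_cases r <;> nlinarith
  · nlinarith [Nat.mul_le_mul_left X.card hr3]

/-- The Frobenius kernel of a point stabiliser exists. -/
theorem exists_kernel (hZ : Cfsg.IsZassenhausGroup G Ω) {a b : Ω} (hab : a ≠ b) :
    ∃ H : Subgroup G, H ≤ stabilizer G a ∧ Nat.card H + 1 = Fintype.card Ω ∧
      ∀ u ∈ H, u ≠ 1 → ∀ c : Ω, u • c = c → c = a := by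
  classical
  obtain ⟨h, hh⟩ : ∃ h, Fintype.card Ω = h + 1 :=
    ⟨_, (Nat.sub_add_cancel (Fintype.card_pos_iff.mpr ⟨a⟩)).symm⟩
  have hh2 := two_le hZ hab hh
  set F := stabilizer G a
  set E := stab₂ G a b with hE
  have hEF : E ≤ F := inf_le_left
  obtain ⟨e, he⟩ : ∃ e, Nat.card E = e := ⟨_, rfl⟩
  have he1 := stab₂_ne_bot hZ hab
  let E' : Subgroup F := E.subgroupOf F
  have hEcard : Nat.card E' = e := (Nat.card_congr (subgroupOfEquivOfLe hEF).toEquiv).trans he
  have hFcard : Nat.card F = h * e := card_stab hZ hab hh he a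
  have hidx : E'.index = h := by
    have h1 := card_mul_index E'
    rw [hEcard, hFcard, mul_comm h e] at h1
    exact Nat.eq_of_mul_eq_mul_left (by rw [← he]; exact Nat.card_pos) h1
  have hFC : Cfsg.IsFrobeniusComplement E' := by
    refine ⟨fun h' => ?_, fun h' => ?_, fun g hg => ?_⟩
    · rw [h', Subgroup.card_bot] at hEcard; rw [he] at he1; omega
    · rw [h', index_top] at hidx; omega
    · rw [eq_bot_iff_forall]
      intro u hu
      obtain ⟨hu1, hu2⟩ := mem_inf.mp hu
      rw [Subgroup.mem_pointwise_smul_iff_inv_smul_mem] at hu2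
      have hu2' : (g : G)⁻¹ * u * g ∈ E := by simpa [E', mem_subgroupOf] using hu2
      apply Subtype.ext
      by_contra hne
      have hga : (g : G) • a = a := g.2
      have hgb : (g : G) • b ≠ b := fun h' => hg ⟨g.2, h'⟩
      have hgba : (g : G) • b ≠ a := fun h' => hab (smul_left_cancel (g : G) (hga.trans h'.symm))
      have h3 : ((g : G)⁻¹ * u * g) • b = b := hu2'.2
      rw [mul_smul, mul_smul, inv_smul_eq_iff] at h3
      exact hne (eq_one_of_three hZ hab hgba hgb hu1.1 hu1.2 h3)
  obtain ⟨N, hN, -, hc⟩ := Cfsg.Lib.Frobenius.exists_kernel hFC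
  refine ⟨N.map F.subtype, map_subtype_le N, ?_, ?_⟩
  · rw [← Nat.card_congr (equivMapOfInjective N F.subtype F.subtype_injective).toEquiv,
      ← hc.index_eq_card, hidx, hh]
  · rintro _ ⟨u, hu, rfl⟩ hu1 c hcfix
    by_contra hca
    obtain ⟨g, hga, hgb⟩ := exists_map hZ hab (Ne.symm hca)
    have hker : u ∈ Cfsg.frobeniusKernel E' := hN ▸ hu
    refine (hker.resolve_left fun h' => hu1 (by rw [h']; rfl)) ⟨g, hga⟩ ?_
    rw [Subgroup.mem_pointwise_smul_iff_inv_smul_mem]
    have hua : (u : G) • a = a := u.2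
    have hcfix' : (u : G) • c = c := hcfix
    suffices h5 : g⁻¹ * u * g ∈ E by simpa [E', mem_subgroupOf] using h5
    refine mem_inf.mpr ⟨mem_stabilizer_iff.mpr ?_, mem_stabilizer_iff.mpr ?_⟩
    · rw [mul_smul, mul_smul, hga, hua, inv_smul_eq_iff, hga]
    · rw [mul_smul, mul_smul, hgb, hcfix', inv_smul_eq_iff, hgb]

section Involutions

variable [IsSimpleGroup G] {a b : Ω} {h e : ℕ}

/-- An element interchanging two points is an involution inverting their stabiliser. -/
theorem swap_sq (hZ : Cfsg.IsZassenhausGroup G Ω) (hab : a ≠ b)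
    (hodd : Odd (Nat.card (stab₂ G a b))) {c d : Ω} (hcd : c ≠ d) :
    (∀ x ∈ stab₂ G c d, ∀ y ∈ stab₂ G c d, x * y = y * x) ∧
    ∀ w : G, w • c = d → w • d = c → w * w = 1 ∧ ∀ u ∈ stab₂ G c d, w⁻¹ * u * w = u⁻¹ := by
  obtain ⟨h', hh⟩ : ∃ k, Fintype.card Ω = k + 1 :=
    ⟨_, (Nat.sub_add_cancel (Fintype.card_pos_iff.mpr ⟨a⟩)).symm⟩
  obtain ⟨H, hHa, hHc, hHf⟩ := exists_kernel hZ hcd
  exact structure₂ hZ hcd hh (by rw [card_stab₂ hZ hab hcd]; exact hodd) hHa hHc hHf

theorem card_swappers (hZ : Cfsg.IsZassenhausGroup G Ω) (hab : a ≠ b)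
    (hodd : Odd (Nat.card (stab₂ G a b))) {c d : Ω} (hcd : c ≠ d) :
    Nat.card {s : G // orderOf s = 2 ∧ s • c = d} = Nat.card (stab₂ G a b) := by
  obtain ⟨w, hwc, hwd⟩ := exists_map hZ hcd hcd.symm
  rw [← card_stab₂ hZ hab hcd]
  refine Nat.card_congr
    { toFun := fun s => ⟨w⁻¹ * s, ?_⟩
      invFun := fun u => ⟨w * u, ?_, ?_⟩
      left_inv := fun s => Subtype.ext (by simp)
      right_inv := fun u => Subtype.ext (by simp) }
  · have hs2 : (s : G) * s = 1 := (sq (s : G)).symm.trans (orderOf_dvd_iff_pow_eq_one.mp (dvd_of_eq s.2.1))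
    have hsd : (s : G) • d = c :=
      (congrArg ((s : G) • ·) s.2.2).symm.trans (by rw [← mul_smul, hs2, one_smul])
    refine mem_inf.mpr ⟨mem_stabilizer_iff.mpr ?_, mem_stabilizer_iff.mpr ?_⟩
    · rw [mul_smul, s.2.2, inv_smul_eq_iff, hwc]
    · rw [mul_smul, hsd, inv_smul_eq_iff, hwd]
  · have huc : (u : G) • c = c := u.2.1
    have hud : (u : G) • d = d := u.2.2
    have h1 : (w * u) • c = d := by rw [mul_smul, huc, hwc]
    refine orderOf_eq_prime (by rw [sq]; exact ((swap_sq hZ hab hodd hcd).2 _ h1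
      (by rw [mul_smul, hud, hwd])).1) fun h' => ?_
    rw [h', one_smul] at h1
    exact hcd h1
  · have huc : (u : G) • c = c := u.2.1
    rw [mul_smul, huc, hwc]

theorem card_moving (hZ : Cfsg.IsZassenhausGroup G Ω) (hab : a ≠ b)
    (hh : Fintype.card Ω = h + 1) (he : Nat.card (stab₂ G a b) = e) (hodd : Odd e) (c : Ω) :
    Nat.card {s : G // orderOf s = 2 ∧ s • c ≠ c} = h * e := by
  classical
  have := Fintype.ofFinite G
  rw [Nat.card_congr (show {s : G // orderOf s = 2 ∧ s • c ≠ c} ≃
    Σ d : {d : Ω // d ≠ c}, {s : G // orderOf s = 2 ∧ s • c = d.1} from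
      { toFun := fun s => ⟨⟨s.1 • c, s.2.2⟩, ⟨s.1, s.2.1, rfl⟩⟩
        invFun := fun p => ⟨p.2.1, p.2.2.1, fun h' => p.1.2 (p.2.2.2.symm.trans h')⟩
        left_inv := fun _ => rfl
        right_inv := fun ⟨⟨d, hd⟩, ⟨s, hs, hsd⟩⟩ => by
          change s • c = d at hsd
          subst hsd
          rfl }), Nat.card_sigma,
    Finset.sum_congr rfl fun d _ => (card_swappers hZ hab (he.symm ▸ hodd) (Ne.symm d.2)).trans he,
    Finset.sum_const, Finset.card_univ, Fintype.card_subtype_compl, Fintype.card_subtype_eq, hh,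
    smul_eq_mul, Nat.add_sub_cancel]

theorem nfix_involution [DecidableEq Ω] (hZ : Cfsg.IsZassenhausGroup G Ω) (hab : a ≠ b)
    (hh : Fintype.card Ω = h + 1) (he : Nat.card (stab₂ G a b) = e) (hodd : Odd e) {s : G}
    (hs : orderOf s = 2) : nfix (Ω := Ω) s = if Even h then 1 else 0 := by
  classical
  have := Fintype.ofFinite G
  have hs1 : s ≠ 1 := fun h' => by rw [h', orderOf_one] at hs; omega
  have hle := nfix_le hZ (Ω := Ω) hs1
  have hne2 : nfix (Ω := Ω) s ≠ 2 := by
    intro h2
    obtain ⟨c, d, hcd, hset⟩ := Finset.card_eq_two.mp h2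
    have hc : s • c = c := (Finset.mem_filter.mp (hset ▸ (by simp) :
      c ∈ Finset.univ.filter fun x : Ω => s • x = x)).2
    have hd : s • d = d := (Finset.mem_filter.mp (hset ▸ (by simp) :
      d ∈ Finset.univ.filter fun x : Ω => s • x = x)).2
    have h3 : orderOf s ∣ e := by
      rw [← he, ← card_stab₂ hZ hab hcd]
      have h4 := orderOf_dvd_natCard (⟨s, hc, hd⟩ : stab₂ G c d)
      rwa [← Subgroup.orderOf_coe] at h4
    rw [hs] at h3
    exact Nat.not_even_iff_odd.mpr hodd (even_iff_two_dvd.mpr h3)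
  have hp : IsPGroup 2 (zpowers s) := IsPGroup.of_card (n := 1) (by rw [Nat.card_zpowers, hs, pow_one])
  have hmod := hp.card_modEq_card_fixedPoints Ω
  have hfixeq : Nat.card (MulAction.fixedPoints (zpowers s) Ω) = nfix (Ω := Ω) s := by
    rw [nfix, ← Fintype.card_subtype, ← Nat.card_eq_fintype_card]
    refine Nat.card_congr (Equiv.subtypeEquivRight fun c => ?_)
    constructor
    · intro hc
      exact hc ⟨s, mem_zpowers s⟩
    · intro hc g
      obtain ⟨i, hi⟩ := mem_zpowers_iff.mp g.2
      show (g : G) • c = c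
      rw [← hi]
      exact mem_stabilizer_iff.mp (zpow_mem (mem_stabilizer_iff.mpr hc) i)
  rw [hfixeq, Nat.card_eq_fintype_card, hh, Nat.ModEq] at hmod
  split_ifs with hev
  · obtain ⟨k, hk⟩ := hev
    omega
  · obtain ⟨k, hk⟩ := Nat.not_even_iff_odd.mp hev
    omega

theorem card_involutions (hZ : Cfsg.IsZassenhausGroup G Ω) (hab : a ≠ b)
    (hh : Fintype.card Ω = h + 1) (he : Nat.card (stab₂ G a b) = e) (hodd : Odd e) :
    Nat.card {s : G // orderOf s = 2} = if Even h then e * (h + 1) else e * h := by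
  classical
  have := Fintype.ofFinite G
  have hh2 := two_le hZ hab hh
  set I := Finset.univ.filter fun s : G => orderOf s = 2 with hI
  have hcard : Nat.card {s : G // orderOf s = 2} = I.card := by
    rw [Nat.card_eq_fintype_card, Fintype.card_subtype]
  have hdc : ∑ s ∈ I, (Finset.univ.filter fun c : Ω => s • c ≠ c).card = (h + 1) * (h * e) := by
    simp only [Finset.card_filter]
    rw [Finset.sum_comm, Finset.sum_congr rfl (g := fun _ => h * e) fun c _ => by
      rw [← Finset.card_filter, hI, Finset.filter_filter, ← Fintype.card_subtype,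
        ← Nat.card_eq_fintype_card]
      exact card_moving hZ hab hh he hodd c, Finset.sum_const, Finset.card_univ, hh, smul_eq_mul]
  have hmov : ∀ s ∈ I, (Finset.univ.filter fun c : Ω => s • c ≠ c).card +
      (if Even h then 1 else 0) = h + 1 := by
    intro s hs
    rw [← nfix_involution hZ hab hh he hodd (Finset.mem_filter.mp hs).2, nfix, add_comm,
      Finset.card_filter_add_card_filter_not, Finset.card_univ, hh]
  have h1 := Finset.sum_congr rfl hmov
  rw [Finset.sum_add_distrib, hdc, Finset.sum_const, Finset.sum_const, smul_eq_mul, smul_eq_mul] at h1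
  rw [hcard]
  split_ifs at h1 ⊢ with hev
  · refine Nat.eq_of_mul_eq_mul_right (show 0 < h by omega) ?_
    nlinarith
  · refine Nat.eq_of_mul_eq_mul_right (show 0 < h + 1 by omega) ?_
    nlinarith

theorem involutions_conj (hZ : Cfsg.IsZassenhausGroup G Ω) (hab : a ≠ b)
    (hodd : Odd (Nat.card (stab₂ G a b))) {x y : G} (hx : orderOf x = 2) (hy : orderOf y = 2) :
    IsConj x y := by
  have := hZ.1
  obtain ⟨w, hwa, hwb⟩ := exists_map hZ hab hab.symm
  suffices key : ∀ s : G, orderOf s = 2 → IsConj w s from (key x hx).symm.trans (key y hy)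
  intro s hs
  have hs1 : s ≠ 1 := fun h' => by rw [h', orderOf_one] at hs; omega
  obtain ⟨c, hc⟩ : ∃ c : Ω, s • c ≠ c := by
    by_contra hall
    push Not at hall
    exact hs1 (eq_of_smul_eq_smul fun c : Ω => by rw [hall c, one_smul])
  obtain ⟨g, hga, hgb⟩ := exists_map hZ hab (Ne.symm hc)
  set t := g⁻¹ * s * g with ht
  have hsc : s • s • c = c := by rw [← mul_smul, ← sq, ← hs, pow_orderOf_eq_one, one_smul]
  have hta : t • a = b := by rw [ht, mul_smul, mul_smul, hga, inv_smul_eq_iff, hgb]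
  have htb : t • b = a := by rw [ht, mul_smul, mul_smul, hgb, hsc, inv_smul_eq_iff, hga]
  set u := w⁻¹ * t with hu
  have huE : u ∈ stab₂ G a b := mem_inf.mpr
    ⟨mem_stabilizer_iff.mpr (by rw [hu, mul_smul, hta, inv_smul_eq_iff, hwa]),
      mem_stabilizer_iff.mpr (by rw [hu, mul_smul, htb, inv_smul_eq_iff, hwb])⟩
  obtain ⟨k, hk⟩ := hodd
  let v := u ^ (k + 1)
  have hvE : v ∈ stab₂ G a b := pow_mem huE _
  have hvv : v * v = u := by
    have h1 : u ^ Nat.card (stab₂ G a b) = 1 :=
      congrArg Subtype.val (pow_card_eq_one' (x := (⟨u, huE⟩ : stab₂ G a b)))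
    rw [← pow_add, show k + 1 + (k + 1) = Nat.card (stab₂ G a b) + 1 by omega, pow_add, h1, one_mul,
      pow_one]
  obtain ⟨-, hinv⟩ := (swap_sq hZ hab ⟨k, hk⟩ hab).2 w hwa hwb
  have h2 : v⁻¹ * w * v = t := by
    have h3 : v⁻¹ * w = w * v := by
      have h4 : w⁻¹ * v⁻¹ * w = v := by
        rw [show w⁻¹ * v⁻¹ * w = (w⁻¹ * v * w)⁻¹ by group, hinv v hvE, inv_inv]
      calc v⁻¹ * w = w * (w⁻¹ * v⁻¹ * w) := by group
        _ = w * v := by rw [h4]
    rw [h3, mul_assoc, hvv, hu, mul_inv_cancel_left]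
  refine (isConj_iff.mpr ⟨v⁻¹, by rw [inv_inv]; exact h2⟩ : IsConj w t).trans
    (isConj_iff.mpr ⟨g, ?_⟩)
  rw [ht]
  group

end Involutions

section Kernel

variable [IsSimpleGroup G] {a b : Ω} {h e : ℕ} {H : Subgroup G}

/-- An element inverting a nontrivial element of `H` fixes `a`. -/
theorem fix_of_inverts (hHa : H ≤ stabilizer G a)
    (hHfix : ∀ u ∈ H, u ≠ 1 → ∀ c : Ω, u • c = c → c = a) {u x : G} (hu : u ∈ H) (hu1 : u ≠ 1)
    (hx : x * u * x⁻¹ = u⁻¹) : x • a = a := by
  refine hHfix u hu hu1 _ ?_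
  have h1 : u⁻¹ • x • a = x • a := by
    rw [← hx, mul_smul, mul_smul, inv_smul_smul, show u • a = a from hHa hu]
  rw [inv_smul_eq_iff] at h1
  exact h1.symm

theorem strongly_real_kernel (hZ : Cfsg.IsZassenhausGroup G Ω) (hab : a ≠ b)
    (hh : Fintype.card Ω = h + 1) (he : Nat.card (stab₂ G a b) = e) (hodd : Odd e)
    (hHa : H ≤ stabilizer G a) (hHcard : Nat.card H + 1 = Fintype.card Ω)
    (hHfix : ∀ u ∈ H, u ≠ 1 → ∀ c : Ω, u • c = c → c = a) {u x y : G} (hu : u ∈ H) (hu1 : u ≠ 1)
    (hx : orderOf x = 2) (hy : orderOf y = 2) (hxy : x * y = u) : orderOf u = 2 := by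
  classical
  have := Fintype.ofFinite G
  have hinv := Cfsg.Lib.InvolCalc.pair_invert hx hy hxy
  have hxa : x • a = a := fix_of_inverts hHa hHfix hu hu1 hinv
  have hev : Even h := by
    by_contra hev
    have h1 := nfix_involution hZ hab hh he hodd hx
    rw [if_neg hev, nfix, Finset.card_eq_zero, Finset.filter_eq_empty_iff] at h1
    exact h1 (Finset.mem_univ a) hxa
  have honly : ∀ s : G, orderOf s = 2 → s • a = a → s ∈ H := by
    intro s hs hsa
    refine mem_kernel hZ hab hh hHa hHcard hHfix hsa fun c hc => ?_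
    have h1 := nfix_involution hZ hab hh he hodd hs
    rw [if_pos hev, nfix, Finset.card_eq_one] at h1
    obtain ⟨d, hd⟩ := h1
    have hc' : c ∈ ({d} : Finset Ω) := hd ▸ Finset.mem_filter.mpr ⟨Finset.mem_univ _, hc⟩
    have ha' : a ∈ ({d} : Finset Ω) := hd ▸ Finset.mem_filter.mpr ⟨Finset.mem_univ _, hsa⟩
    rw [Finset.mem_singleton] at hc' ha'
    rw [hc', ha']
  have hxH := honly x hx hxa
  have hya : y • a = a := by
    have h1 : (x * y) • a = a := hxy ▸ hHa hu
    rw [mul_smul] at h1
    exact smul_left_cancel x (h1.trans hxa.symm)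
  have hyH := honly y hy hya
  -- every involution of `H` is central
  have hcount : Nat.card {s : G // orderOf s = 2 ∧ s • a = a} = e := by
    have h1 := card_involutions hZ hab hh he hodd
    rw [if_pos hev] at h1
    have h2 := card_moving hZ hab hh he hodd a
    rw [Nat.card_eq_fintype_card, Fintype.card_subtype] at h1 h2 ⊢
    have h3 := Finset.card_filter_add_card_filter_not
      (s := Finset.univ.filter fun s : G => orderOf s = 2) (fun s : G => s • a = a)
    rw [Finset.filter_filter, Finset.filter_filter] at h3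
    nlinarith
  set F := stabilizer G a
  have hcen : ∀ v ∈ H, x * v = v * x := by
    have hx1 : x ≠ 1 := fun h' => by rw [h', orderOf_one] at hx; omega
    let f : F → {s : G // orderOf s = 2 ∧ s • a = a} := fun g => ⟨(g : G) * x * (g : G)⁻¹,
      (orderOf_injective (MulAut.conj (g : G)).toMonoidHom (MulAut.conj (g : G)).injective x).trans hx,
      by rw [mul_smul, mul_smul, inv_smul_eq_iff.mpr (show (g : G) • a = a from g.2).symm, hxa]; exact g.2⟩
    let C : Subgroup G := F ⊓ centralizer ({x} : Set G)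
    have hCH : C ≤ H := by
      intro g hg
      obtain ⟨hgF, hgc⟩ := mem_inf.mp hg
      rcases eq_or_ne g 1 with hg1' | hg1ne
      · rw [hg1']; exact one_mem H
      refine mem_kernel hZ hab hh hHa hHcard hHfix hgF fun c hc => ?_
      by_contra hca
      have hxc : x • c ≠ c := fun h' => hca (hHfix x hxH hx1 c h')
      have hxca : x • c ≠ a := fun h' => hca (smul_left_cancel x (h'.trans hxa.symm))
      have hg1 : g = 1 := by
        refine eq_one_of_three hZ (Ne.symm hca) hxca hxc hgF hc ?_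
        rw [← mul_smul, mem_centralizer_singleton_iff.mp hgc, mul_smul, hc]
      exact hg1ne hg1
    intro v hv
    have hfib : Nat.card F ≤ Nat.card {s : G // orderOf s = 2 ∧ s • a = a} * Nat.card C := by
      rw [← Nat.card_prod]
      refine Nat.card_le_card_of_injective (fun g : F => (f g, (⟨(Function.invFun f (f g) : F)⁻¹ * g,
        ?_⟩ : C))) ?_
      · have h1 : f (Function.invFun f (f g)) = f g := Function.invFun_eq ⟨g, rfl⟩
        have h2 := congrArg Subtype.val h1
        simp only [f] at h2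
        refine mem_inf.mpr ⟨mul_mem (inv_mem (Function.invFun f (f g)).2) g.2,
          mem_centralizer_singleton_iff.mpr ?_⟩
        set k : G := ((Function.invFun f (f g) : F) : G)
        calc k⁻¹ * g * x = k⁻¹ * ((g : G) * x * (g : G)⁻¹) * g := by group
          _ = k⁻¹ * (k * x * k⁻¹) * g := by rw [h2]
          _ = x * (k⁻¹ * g) := by group
      · intro g g' hgg
        simp only [Prod.mk.injEq] at hgg
        have h2 := congrArg Subtype.val hgg.2
        simp only [hgg.1] at h2
        exact Subtype.ext (mul_left_cancel h2)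
    rw [hcount, card_stab hZ hab hh he a, mul_comm] at hfib
    have hep : 0 < e := hodd.pos
    have hle : h ≤ Nat.card C := Nat.le_of_mul_le_mul_left hfib hep
    have hCeq : C = H := eq_of_le_of_card_ge hCH (by omega)
    have hvC : v ∈ C := hCeq.symm ▸ hv
    exact (mem_centralizer_singleton_iff.mp hvC.2).symm
  have hx2 : x * x = 1 := by rw [← sq, ← hx, pow_orderOf_eq_one]
  have hy2 : y * y = 1 := by rw [← sq, ← hy, pow_orderOf_eq_one]
  refine orderOf_eq_prime ?_ hu1
  rw [← hxy, sq, mul_assoc, ← mul_assoc y, ← hcen y hyH, mul_assoc, hy2, mul_one, hx2]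

theorem classes_avoiding_kernel (hZ : Cfsg.IsZassenhausGroup G Ω) (hab : a ≠ b)
    (hh : Fintype.card Ω = h + 1) (he : Nat.card (stab₂ G a b) = e) (hodd : Odd e) (hlt : e < h)
    (hHa : H ≤ stabilizer G a) (hHcard : Nat.card H + 1 = Fintype.card Ω)
    (hHfix : ∀ u ∈ H, u ≠ 1 → ∀ c : Ω, u • c = c → c = a) :
    e ≤ Nat.card {C : ConjClasses G // ∀ g : G, ConjClasses.mk g = C → g ∉ H} := by
  classical
  have := Fintype.ofFinite G
  have : Fintype (ConjClasses G) := Fintype.ofFinite _
  set I := Finset.univ.filter fun s : G => orderOf s = 2 with hI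
  have hIcard : I.card = if Even h then e * (h + 1) else e * h := by
    rw [← card_involutions hZ hab hh he hodd, Nat.card_eq_fintype_card, Fintype.card_subtype]
  set Cs := Finset.univ.filter fun C : ConjClasses G => ∀ g : G, ConjClasses.mk g = C → g ∉ H with hCs
  have hgoal : Nat.card {C : ConjClasses G // ∀ g : G, ConjClasses.mk g = C → g ∉ H} = Cs.card := by
    rw [Nat.card_eq_fintype_card, Fintype.card_subtype]
  rw [hgoal]
  set P := I ×ˢ I
  set good := P.filter fun p => ConjClasses.mk (p.1 * p.2) ∈ Cs with hgood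
  have hfib : good.card ≤ Nat.card G * Cs.card := by
    refine Finset.card_le_mul_card_image_of_maps_to (f := fun p : G × G => ConjClasses.mk (p.1 * p.2))
      (fun p hp => (Finset.mem_filter.mp hp).2) _ fun C hC => ?_
    obtain ⟨z₀, rfl⟩ := ConjClasses.exists_rep C
    calc ((good.filter fun p => ConjClasses.mk (p.1 * p.2) = ConjClasses.mk z₀)).card
        ≤ ∑ z ∈ Finset.univ.filter (fun z : G => IsConj z₀ z),
            (P.filter fun p => p.1 * p.2 = z).card := by
          refine le_trans (Finset.card_le_card ?_) Finset.card_biUnion_le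
          intro p hp
          simp only [hgood, Finset.mem_filter] at hp
          simp only [Finset.mem_biUnion, Finset.mem_filter, Finset.mem_univ, true_and]
          exact ⟨p.1 * p.2, (ConjClasses.mk_eq_mk_iff_isConj.mp hp.2).symm, hp.1.1, rfl⟩
      _ ≤ ∑ _z ∈ Finset.univ.filter (fun z : G => IsConj z₀ z),
            Nat.card (centralizer ({z₀} : Set G)) := by
          refine Finset.sum_le_sum fun z hz => ?_
          obtain ⟨k, rfl⟩ := isConj_iff.mp (Finset.mem_filter.mp hz).2
          refine le_trans ?_ (le_trans (Cfsg.Lib.InvolCalc.pairs_bound (k * z₀ * k⁻¹)).1 ?_)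
          · rw [Nat.card_eq_fintype_card, Fintype.card_subtype]
            refine Finset.card_le_card fun p hp => ?_
            simp only [P, hI, Finset.mem_filter, Finset.mem_product, Finset.mem_univ, true_and] at hp ⊢
            exact ⟨hp.1.1, hp.1.2, hp.2⟩
          · refine Nat.card_le_card_of_injective (fun c => ⟨k⁻¹ * c * k, ?_⟩) fun c c' hcc => ?_
            · have h1 := mem_centralizer_singleton_iff.mp c.2
              rw [mem_centralizer_singleton_iff]
              calc k⁻¹ * c * k * z₀ = k⁻¹ * ((c : G) * (k * z₀ * k⁻¹)) * k := by group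
                _ = k⁻¹ * ((k * z₀ * k⁻¹) * c) * k := by rw [h1]
                _ = z₀ * (k⁻¹ * c * k) := by group
            · exact Subtype.ext (mul_left_cancel (mul_right_cancel (congrArg Subtype.val hcc)))
      _ = Nat.card G := by
          rw [Finset.sum_const, smul_eq_mul, ← Fintype.card_subtype, ← Nat.card_eq_fintype_card,
            Cfsg.Lib.Chars.card_isConj_mul]
  -- products meeting a conjugate of `H`
  set bad := P.filter fun p => ¬ ConjClasses.mk (p.1 * p.2) ∈ Cs with hbad
  have hsplit : good.card + bad.card = I.card * I.card := by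
    rw [hgood, hbad, Finset.card_filter_add_card_filter_not, Finset.card_product]
  have hprop : ∀ p ∈ bad, p.1 = p.2 ∨ ∃ c : Ω, p.1 • c = c ∧ p.2 • c = c := by
    intro p hp
    simp only [hbad, P, hI, hCs, Finset.mem_filter, Finset.mem_product, Finset.mem_univ, true_and,
      not_forall, not_not] at hp
    obtain ⟨⟨hp1, hp2⟩, g, hg, hgH⟩ := hp
    obtain ⟨k, hk⟩ := isConj_iff.mp (ConjClasses.mk_eq_mk_iff_isConj.mp hg)
    rcases eq_or_ne g 1 with rfl | hg1
    · left
      rw [mul_one, mul_inv_cancel] at hk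
      rw [eq_inv_of_mul_eq_one_left hk.symm, inv_eq_iff_mul_eq_one, ← sq, ← hp2, pow_orderOf_eq_one]
    · right
      refine ⟨k • a, ?_⟩
      have hinv := Cfsg.Lib.InvolCalc.pair_invert hp1 hp2 rfl
      have h1 : (k⁻¹ * p.1 * k) • a = a := by
        refine fix_of_inverts hHa hHfix hgH hg1 ?_
        rw [← hk] at hinv
        calc k⁻¹ * p.1 * k * g * (k⁻¹ * p.1 * k)⁻¹ = k⁻¹ * (p.1 * (k * g * k⁻¹) * p.1⁻¹) * k := by group
          _ = k⁻¹ * (k * g * k⁻¹)⁻¹ * k := by rw [hinv]
          _ = g⁻¹ := by group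
      rw [mul_smul, mul_smul, inv_smul_eq_iff] at h1
      refine ⟨h1, smul_left_cancel p.1 ?_⟩
      rw [h1, ← mul_smul p.1 p.2, ← hk, mul_smul, mul_smul, inv_smul_smul,
        show g • a = a from hHa hgH]
  rw [card_group hZ hab hh he] at hfib
  have hep : 0 < e := hodd.pos
  by_cases hev : Even h
  · rw [if_pos hev] at hIcard
    set J := fun c : Ω => I.filter fun s => s • c = c with hJ
    have hJcard : ∀ c, (J c).card = e := by
      intro c
      have h1 := card_moving hZ hab hh he hodd c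
      rw [Nat.card_eq_fintype_card, Fintype.card_subtype] at h1
      have h2 := Finset.card_filter_add_card_filter_not (s := I) (fun s : G => s • c = c)
      rw [hI, Finset.filter_filter, Finset.filter_filter, ← hI] at h2
      simp only [hJ, hI, Finset.filter_filter]
      nlinarith
    have hb : bad.card ≤ (h + 1) * (e * e) := by
      calc bad.card ≤ ∑ c : Ω, (J c ×ˢ J c).card := by
            refine le_trans (Finset.card_le_card ?_) Finset.card_biUnion_le
            intro p hp
            have hpI : p.1 ∈ I ∧ p.2 ∈ I := Finset.mem_product.mp (Finset.mem_filter.mp hp).1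
            simp only [Finset.mem_biUnion, Finset.mem_univ, true_and, Finset.mem_product, hJ,
              Finset.mem_filter]
            rcases hprop p hp with heq | ⟨c, hc1, hc2⟩
            · have h1 := nfix_involution hZ hab hh he hodd (Finset.mem_filter.mp hpI.1).2
              rw [if_pos hev, nfix, Finset.card_eq_one] at h1
              obtain ⟨c, hc⟩ := h1
              have hc' : p.1 • c = c := (Finset.mem_filter.mp (hc ▸ Finset.mem_singleton_self c :
                c ∈ Finset.univ.filter fun x : Ω => p.1 • x = x)).2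
              exact ⟨c, ⟨hpI.1, hc'⟩, ⟨hpI.2, heq ▸ hc'⟩⟩
            · exact ⟨c, ⟨hpI.1, hc1⟩, ⟨hpI.2, hc2⟩⟩
        _ = (h + 1) * (e * e) := by
            rw [Finset.sum_congr rfl fun c _ => by rw [Finset.card_product, hJcard c],
              Finset.sum_const, Finset.card_univ, hh, smul_eq_mul]
    rw [hIcard] at hsplit
    by_contra hcon
    push Not at hcon
    have h1 : (h + 1) * (h * e) * Cs.card < (h + 1) * (h * e) * e :=
      Nat.mul_lt_mul_of_pos_left hcon (Nat.mul_pos (Nat.succ_pos h) (Nat.mul_pos (by omega) hep))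
    nlinarith
  · rw [if_neg hev] at hIcard
    have hb : bad.card ≤ I.card := by
      refine Finset.card_le_card_of_injOn (fun p => p.1) (fun p hp => ?_) fun p hp q hq hpq => ?_
      · exact (Finset.mem_product.mp (Finset.mem_filter.mp hp).1).1
      · have key : ∀ p ∈ bad, p.1 = p.2 := by
          intro p hp
          rcases hprop p hp with heq | ⟨c, hc1, -⟩
          · exact heq
          · exfalso
            have h1 := nfix_involution hZ hab hh he hodd
              (Finset.mem_filter.mp (Finset.mem_product.mp (Finset.mem_filter.mp hp).1).1).2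
            rw [if_neg hev, nfix, Finset.card_eq_zero, Finset.filter_eq_empty_iff] at h1
            exact h1 (Finset.mem_univ c) hc1
        exact Prod.ext hpq (by rw [← key p hp, ← key q hq]; exact hpq)
    rw [hIcard] at hsplit hb
    by_contra hcon
    push Not at hcon
    have h1 : (h + 1) * (h * e) * (Cs.card + 1) ≤ (h + 1) * (h * e) * e :=
      Nat.mul_le_mul_left _ hcon
    nlinarith [Nat.mul_lt_mul_of_pos_left hlt (Nat.mul_pos (Nat.zero_lt_of_lt hlt) hep)]

theorem induced_linear [Fintype G] (hZ : Cfsg.IsZassenhausGroup G Ω) (hab : a ≠ b)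
    (hodd : Odd (Nat.card (stab₂ G a b)))
    (hHa : H ≤ stabilizer G a) (hHcard : Nat.card H + 1 = Fintype.card Ω)
    (hHfix : ∀ u ∈ H, u ≠ 1 → ∀ c : Ω, u • c = c → c = a)
    (μ : stabilizer G a → ℂ) (hμ : Cfsg.IsCharacter (stabilizer G a) μ) (hμ1 : μ 1 = 1)
    (hμH : ∀ u : stabilizer G a, (u : G) ∈ H → μ u = 1) (hμne : μ ≠ fun _ => 1) :
    Cfsg.IsIrrCharacter G (Cfsg.indFun (stabilizer G a) μ) ∧
      ∀ u ∈ H, u ≠ 1 → Cfsg.indFun (stabilizer G a) μ u = 1 := by
  classical
  have : Fintype (stabilizer G a) := Fintype.ofFinite _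
  obtain ⟨h, hh⟩ : ∃ h, Fintype.card Ω = h + 1 :=
    ⟨_, (Nat.sub_add_cancel (Fintype.card_pos_iff.mpr ⟨a⟩)).symm⟩
  obtain ⟨f, hf⟩ := Cfsg.Lib.Chars.exists_hom_of_deg_one hμ hμ1
  have hFne : (Nat.card (stabilizer G a) : ℂ) ≠ 0 := by exact_mod_cast Nat.card_pos.ne'
  refine ⟨?_, ?_⟩
  · refine Cfsg.Lib.Chars.isIrrCharacter_of_norm_one (Cfsg.Lib.Chars.IsCharacter.indFun hμ) ?_
    rw [Cfsg.Lib.Chars.frobenius_reciprocity (stabilizer G a) μ (Cfsg.Lib.Chars.isClassFunction_indFun (stabilizer G a) μ)]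
    have hin : ∀ x : G, x ∈ (stabilizer G a) →
        ∑ g : (stabilizer G a), μ g * conj (Cfsg.extendByZero (stabilizer G a) μ (x⁻¹ * g * x)) = (Nat.card (stabilizer G a) : ℂ) := by
      intro x hx
      rw [Nat.card_eq_fintype_card, Finset.sum_congr rfl (g := fun _ => (1 : ℂ)) fun g _ => ?_,
        Finset.sum_const, Finset.card_univ, nsmul_eq_mul, mul_one]
      have hm : x⁻¹ * g * x ∈ (stabilizer G a) := mul_mem (mul_mem (inv_mem hx) g.2) hx
      rw [Cfsg.Lib.Chars.extendByZero_mem _ hm,
        show (⟨x⁻¹ * g * x, hm⟩ : (stabilizer G a)) = (⟨x, hx⟩ : (stabilizer G a))⁻¹ * g * ⟨x, hx⟩ from rfl,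
        Cfsg.Lib.Chars.classFunction_conj' (Cfsg.Lib.Chars.isClassFunction_isChar hμ), hf]
      have h1 : ‖(f g : ℂ)‖ = 1 := Complex.norm_eq_one_of_pow_eq_one
        (by rw [← Units.val_pow_eq_pow_val, ← map_pow, pow_card_eq_one', map_one, Units.val_one])
        Nat.card_pos.ne'
      rw [Complex.mul_conj, Complex.normSq_eq_norm_sq, h1]
      norm_num
    have hout : ∀ x : G, x ∉ (stabilizer G a) →
        ∑ g : (stabilizer G a), μ g * conj (Cfsg.extendByZero (stabilizer G a) μ (x⁻¹ * g * x)) = 0 := by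
      intro x hx
      have hxa : x • a ≠ a := hx
      set D := stab₂ G a (x • a) with hD
      have : Fintype D := Fintype.ofFinite _
      have hDx : ∀ g ∈ D, x⁻¹ * g * x ∈ (stabilizer G a) := fun g hg => mem_stabilizer_iff.mpr (by
        rw [mul_smul, mul_smul, show g • x • a = x • a from hg.2, inv_smul_smul])
      let ν : D →* ℂˣ :=
        { toFun := fun g => f ⟨g, g.2.1⟩ / f ⟨x⁻¹ * g * x, hDx g g.2⟩
          map_one' := by
            rw [show (⟨((1 : D) : G), (1 : D).2.1⟩ : (stabilizer G a)) = 1 from rfl,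
              show (⟨x⁻¹ * ((1 : D) : G) * x, hDx _ (1 : D).2⟩ : (stabilizer G a)) = 1 from Subtype.ext (by simp),
              map_one, div_one]
          map_mul' := fun g g' => by
            rw [show (⟨((g * g' : D) : G), (g * g').2.1⟩ : (stabilizer G a)) = ⟨g, g.2.1⟩ * ⟨g', g'.2.1⟩ from rfl,
              show (⟨x⁻¹ * ((g * g' : D) : G) * x, hDx _ (g * g').2⟩ : (stabilizer G a)) =
                ⟨x⁻¹ * g * x, hDx g g.2⟩ * ⟨x⁻¹ * g' * x, hDx g' g'.2⟩ from
                Subtype.ext (by simp [mul_assoc]), map_mul, map_mul, mul_div_mul_comm] }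
      have hν : ν ≠ 1 := by
        intro hν1
        have hDtriv : ∀ g : D, f ⟨g, g.2.1⟩ = 1 := by
          intro g
          have h1 : f ⟨g, g.2.1⟩ = f ⟨x⁻¹ * g * x, hDx g g.2⟩ :=
            div_eq_one.mp (DFunLike.congr_fun hν1 g)
          have h2 := hom_mul_conj hZ hab f g.2.1 hxa (hDx g g.2)
            ((commutator_eq_top hZ hab).symm ▸ mem_top _)
          rw [← h1] at h2
          have h3 : f ⟨g, g.2.1⟩ ^ Nat.card D = 1 := by
            have h4 : (⟨g, g.2.1⟩ : (stabilizer G a)) ^ Nat.card D = 1 := Subtype.ext (by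
              show (g : G) ^ Nat.card D = 1
              exact congrArg Subtype.val (pow_card_eq_one' (x := g)))
            rw [← map_pow, h4, map_one]
          rw [← orderOf_eq_one_iff]
          refine Nat.eq_one_of_dvd_coprimes ?_ (orderOf_dvd_of_pow_eq_one (n := 2) (by rw [sq]; exact h2))
            (orderOf_dvd_of_pow_eq_one h3)
          rw [hD, card_stab₂ hZ hab (Ne.symm hxa)]
          exact Nat.prime_two.coprime_iff_not_dvd.mpr hodd.not_two_dvd_nat
        apply hμne
        funext g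
        obtain ⟨u, hu, hub⟩ := exists_kernel_map hHa hHcard hHfix hxa
          (show (g : G) • x • a ≠ a from fun h' =>
            hxa (smul_left_cancel (g : G) (h'.trans (show (g : G) • a = a from g.2).symm)))
        have hd : u⁻¹ * g ∈ D := mem_inf.mpr ⟨mul_mem (inv_mem (hHa hu)) g.2,
          mem_stabilizer_iff.mpr (by rw [mul_smul, ← hub, inv_smul_smul])⟩
        have hμu : μ ⟨u, hHa hu⟩ = 1 := hμH _ hu
        rw [hf] at hμu ⊢
        simp only at hμu ⊢
        rw [show g = (⟨u, hHa hu⟩ : (stabilizer G a)) * ⟨u⁻¹ * g, hd.1⟩ from Subtype.ext (by simp), map_mul,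
          Units.val_mul, hμu, hDtriv ⟨u⁻¹ * g, hd⟩, Units.val_one, mul_one]
      rw [← Finset.sum_filter_of_ne (p := fun g : (stabilizer G a) => (g : G) ∈ D) fun g _ hg => by
        by_contra hgD
        apply hg
        rw [Cfsg.Lib.Chars.extendByZero_not_mem _ fun hm => hgD (mem_inf.mpr ⟨g.2,
          mem_stabilizer_iff.mpr (by
            rw [mem_stabilizer_iff, mul_smul, mul_smul, inv_smul_eq_iff] at hm
            exact hm)⟩), map_zero, mul_zero]]
      refine (Finset.sum_bij' (s := Finset.univ.filter fun g : stabilizer G a => (g : G) ∈ D) (fun g hg => (⟨g, (Finset.mem_filter.mp hg).2⟩ : D))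
        (fun d _ => (⟨d, d.2.1⟩ : (stabilizer G a))) (fun _ _ => Finset.mem_univ _)
        (fun d _ => Finset.mem_filter.mpr ⟨Finset.mem_univ _, d.2⟩) (fun _ _ => rfl) (fun _ _ => rfl)
        (g := fun d : D => ((ν d : ℂˣ) : ℂ)) fun g hg => ?_).trans
        (sum_hom_units_eq_zero ((Units.coeHom ℂ).comp ν) fun h' => hν (MonoidHom.ext fun d =>
          Units.ext (DFunLike.congr_fun h' d)))
      have hgD := (Finset.mem_filter.mp hg).2
      rw [Cfsg.Lib.Chars.extendByZero_mem _ (hDx g hgD), hf]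
      simp only [ν, MonoidHom.coe_mk, OneHom.coe_mk]
      rw [Units.val_div_eq_div_val, div_eq_mul_inv]
      congr 1
      have h1 : ‖(f ⟨x⁻¹ * g * x, hDx g hgD⟩ : ℂ)‖ = 1 := Complex.norm_eq_one_of_pow_eq_one
        (by rw [← Units.val_pow_eq_pow_val, ← map_pow, pow_card_eq_one', map_one, Units.val_one])
        Nat.card_pos.ne'
      exact (Complex.inv_eq_conj h1).symm
    rw [Cfsg.Lib.Chars.classInner_def]
    simp only [Cfsg.Lib.Chars.indFun_apply, map_mul, map_inv₀, Complex.conj_natCast, map_sum,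
      Finset.mul_sum]
    rw [Finset.sum_comm]
    have h2 : ∀ x : G, ∑ g : (stabilizer G a), (Nat.card (stabilizer G a) : ℂ)⁻¹ * (μ g * ((Nat.card (stabilizer G a) : ℂ)⁻¹ *
        conj (Cfsg.extendByZero (stabilizer G a) μ (x⁻¹ * g * x)))) =
        if x ∈ (stabilizer G a) then (Nat.card (stabilizer G a) : ℂ)⁻¹ else 0 := by
      intro x
      have h3 : ∑ g : (stabilizer G a), (Nat.card (stabilizer G a) : ℂ)⁻¹ * (μ g * ((Nat.card (stabilizer G a) : ℂ)⁻¹ *
          conj (Cfsg.extendByZero (stabilizer G a) μ (x⁻¹ * g * x)))) = (Nat.card (stabilizer G a) : ℂ)⁻¹ * ((Nat.card (stabilizer G a) : ℂ)⁻¹ *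
            ∑ g : (stabilizer G a), μ g * conj (Cfsg.extendByZero (stabilizer G a) μ (x⁻¹ * g * x))) := by
        simp only [Finset.mul_sum]
        exact Finset.sum_congr rfl fun g _ => by ring
      rw [h3]
      split_ifs with hx
      · rw [hin x hx, inv_mul_cancel₀ hFne, mul_one]
      · rw [hout x hx, mul_zero, mul_zero]
    rw [Finset.sum_congr rfl fun x _ => h2 x, ← Finset.sum_filter, Finset.sum_const, nsmul_eq_mul,
      ← Fintype.card_subtype, ← Nat.card_eq_fintype_card]
    exact mul_inv_cancel₀ hFne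
  · intro u hu hu1
    rw [Cfsg.Lib.Chars.indFun_apply]
    have h1 : ∀ x : G, Cfsg.extendByZero (stabilizer G a) μ (x⁻¹ * u * x) = if x ∈ (stabilizer G a) then 1 else 0 := by
      intro x
      split_ifs with hx
      · have hm : x⁻¹ * u * x ∈ (stabilizer G a) := mul_mem (mul_mem (inv_mem hx) (hHa hu)) hx
        rw [Cfsg.Lib.Chars.extendByZero_mem _ hm]
        refine hμH _ ?_
        simpa using kernel_normal hZ hab hh hHa hHcard hHfix x⁻¹ (inv_mem hx) u hu
      · refine Cfsg.Lib.Chars.extendByZero_not_mem _ fun hm => hx (mem_stabilizer_iff.mpr ?_)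
        rw [mem_stabilizer_iff, mul_smul, mul_smul, inv_smul_eq_iff] at hm
        exact hHfix u hu hu1 _ hm
    rw [Finset.sum_congr rfl fun x _ => h1 x, ← Finset.sum_filter, Finset.sum_const, nsmul_eq_mul,
      mul_one, ← Fintype.card_subtype, ← Nat.card_eq_fintype_card]
    exact inv_mul_cancel₀ hFne

end Kernel

end Cfsg.Lib.OddChar.Zassenhaus
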