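import Cfsg.Prelude.Def_LieExceptional
import Cfsg.Agent.Frobenius.FpfGroups
import Mathlib

/-!
# Zassenhaus groups with a two-point stabiliser of odd order
-/

namespace Cfsg.Lib.OddChar.Zassenhaus

open Subgroup MulAction Function
open scoped commutatorElement

universe u v w

/-- The transfer at an element fixing exactly the cosets `F` and `x F`, all of whose non-trivial
powers fix no further coset. -/
theorem transfer_two {G : Type u} [Group G] [Finite G] (F : Subgroup G) {A : Type w} [CommGroup A]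
    (φ : F →* A) {u x : G} (hu : u ∈ F) (hxu : x⁻¹ * u * x ∈ F) (hx : x ∉ F)
    (hpow : ∀ (m : ℕ) (c : G), c⁻¹ * u ^ m * c ∈ F → u ^ m = 1 ∨ c ∈ F ∨ x⁻¹ * c ∈ F) :
    MonoidHom.transfer φ u = φ ⟨u, hu⟩ * φ ⟨x⁻¹ * u * x, hxu⟩ := by
  classical
  have : Fintype (Quotient (orbitRel (zpowers u) (G ⧸ F))) := Fintype.ofFinite _
  rw [MonoidHom.transfer_eq_prod_quotient_orbitRel_zpowers_quot]
  -- cosets fixed by `u`
  have hfix : ∀ c : G, c⁻¹ * u * c ∈ F →
      (Quotient.mk'' (c : G ⧸ F) : Quotient (orbitRel (zpowers u) (G ⧸ F))).out = (c : G ⧸ F) := by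
    intro c hc
    obtain ⟨g, hg⟩ : ∃ g : zpowers u, g • (c : G ⧸ F) =
        (Quotient.mk'' (c : G ⧸ F) : Quotient (orbitRel (zpowers u) (G ⧸ F))).out :=
      mem_orbit_iff.mp (orbitRel_apply.mp (Quotient.exact' (Quotient.out_eq' (Quotient.mk''
        (c : G ⧸ F) : Quotient (orbitRel (zpowers u) (G ⧸ F))))))
    rw [← hg]
    obtain ⟨i, hi⟩ := mem_zpowers_iff.mp g.2
    show (g : G) • (c : G ⧸ F) = c
    have hmem : u ∈ stabilizer G (c : G ⧸ F) := by
      rw [mem_stabilizer_iff, MulAction.Quotient.smul_coe, smul_eq_mul]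
      refine (QuotientGroup.eq.mpr ?_).symm
      simpa [mul_assoc] using hc
    rw [← hi]
    exact mem_stabilizer_iff.mp (zpow_mem hmem i)
  have hterm : ∀ c : G, ∀ hc : c⁻¹ * u * c ∈ F,
      φ ⟨(Quotient.mk'' (c : G ⧸ F) : Quotient (orbitRel (zpowers u) (G ⧸ F))).out.out⁻¹ *
        u ^ minimalPeriod (u • ·) (Quotient.mk'' (c : G ⧸ F) :
          Quotient (orbitRel (zpowers u) (G ⧸ F))).out *
        (Quotient.mk'' (c : G ⧸ F) : Quotient (orbitRel (zpowers u) (G ⧸ F))).out.out,
        QuotientGroup.out_conj_pow_minimalPeriod_mem F u _⟩ = φ ⟨c⁻¹ * u * c, hc⟩ := by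
    intro c hc
    have h1 := hfix c hc
    obtain ⟨f, hf⟩ := QuotientGroup.mk_out_eq_mul F c
    have hper : minimalPeriod (u • ·) (c : G ⧸ F) = 1 := by
      rw [minimalPeriod_eq_one_iff_isFixedPt]
      show u • (c : G ⧸ F) = c
      rw [MulAction.Quotient.smul_coe, smul_eq_mul]
      refine (QuotientGroup.eq.mpr ?_).symm
      simpa [mul_assoc] using hc
    have heq : (⟨(Quotient.mk'' (c : G ⧸ F) : Quotient (orbitRel (zpowers u) (G ⧸ F))).out.out⁻¹ *
        u ^ minimalPeriod (u • ·) (Quotient.mk'' (c : G ⧸ F) :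
          Quotient (orbitRel (zpowers u) (G ⧸ F))).out *
        (Quotient.mk'' (c : G ⧸ F) : Quotient (orbitRel (zpowers u) (G ⧸ F))).out.out,
        QuotientGroup.out_conj_pow_minimalPeriod_mem F u _⟩ : F) =
        f⁻¹ * ⟨c⁻¹ * u * c, hc⟩ * f := by
      apply Subtype.ext
      simp only [h1, hper, pow_one, hf, Subgroup.coe_mul, InvMemClass.coe_inv]
      group
    rw [heq, map_mul, map_mul, map_inv, mul_comm, ← mul_assoc, mul_inv_cancel, one_mul]
  have h1F : (1 : G)⁻¹ * u * 1 ∈ F := by simpa using hu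
  rw [Fintype.prod_eq_mul (Quotient.mk'' ((1 : G) : G ⧸ F)) (Quotient.mk'' (x : G ⧸ F)) ?_ ?_,
    hterm 1 h1F, hterm x hxu]
  · congr 1
    exact congrArg φ (Subtype.ext (by simp))
  · intro h
    have h2 := congrArg Quotient.out h
    rw [hfix 1 h1F, hfix x hxu, QuotientGroup.eq, inv_one, one_mul] at h2
    exact hx h2
  · rintro q ⟨hq1, hq2⟩
    rcases hpow _ q.out.out (QuotientGroup.out_conj_pow_minimalPeriod_mem F u q.out) with h | h | h
    · refine (congrArg φ (Subtype.ext ?_)).trans (map_one φ)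
      simp [h]
    · refine absurd ?_ hq1
      rw [← Quotient.out_eq' q, ← QuotientGroup.out_eq' q.out]
      refine congrArg _ (QuotientGroup.eq.mpr ?_)
      simpa using F.inv_mem h
    · refine absurd ?_ hq2
      rw [← Quotient.out_eq' q, ← QuotientGroup.out_eq' q.out]
      refine congrArg _ (QuotientGroup.eq.mpr ?_)
      simpa [mul_assoc] using F.inv_mem h

set_option linter.unusedSectionVars false

variable {G : Type u} {Ω : Type v} [Group G] [Finite G] [MulAction G Ω] [Fintype Ω]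

/-- The stabiliser of two points. -/
abbrev stab₂ (G : Type u) {Ω : Type v} [Group G] [MulAction G Ω] (a b : Ω) : Subgroup G :=
  stabilizer G a ⊓ stabilizer G b

theorem eq_one_of_three (hZ : Cfsg.IsZassenhausGroup G Ω) {g : G} {a b c : Ω} (hab : a ≠ b)
    (hca : c ≠ a) (hcb : c ≠ b) (ha : g • a = a) (hb : g • b = b) (hc : g • c = c) : g = 1 :=
  hZ.2.2.1 g a b c hab hcb.symm hca.symm ha hb hc

theorem exists_map (hZ : Cfsg.IsZassenhausGroup G Ω) {a b c d : Ω} (hab : a ≠ b) (hcd : c ≠ d) :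
    ∃ g : G, g • a = c ∧ g • b = d :=
  MulAction.is_two_pretransitive_iff.mp hZ.2.1 hab hcd

theorem exists_map_one (hZ : Cfsg.IsZassenhausGroup G Ω) {a b : Ω} (_hab : a ≠ b) (c d : Ω) :
    ∃ g : G, g • c = d := by
  rcases eq_or_ne c d with rfl | h
  · exact ⟨1, one_smul _ _⟩
  · obtain ⟨g, hg, -⟩ := exists_map hZ h (Ne.symm h)
    exact ⟨g, hg⟩

theorem card_stab₂ (hZ : Cfsg.IsZassenhausGroup G Ω) {a b : Ω} (hab : a ≠ b) {c d : Ω}
    (hcd : c ≠ d) : Nat.card (stab₂ G c d) = Nat.card (stab₂ G a b) := by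
  obtain ⟨g, rfl, rfl⟩ := exists_map hZ hab hcd
  refine Nat.card_congr
    { toFun := fun x => ⟨g⁻¹ * x * g, ?_⟩
      invFun := fun x => ⟨g * x * g⁻¹, ?_⟩
      left_inv := fun x => Subtype.ext (by simp [mul_assoc])
      right_inv := fun x => Subtype.ext (by simp [mul_assoc]) }
  · obtain ⟨h1, h2⟩ := mem_inf.mp x.2
    rw [mem_stabilizer_iff] at h1 h2
    exact mem_inf.mpr ⟨by simp [mul_smul, h1], by simp [mul_smul, h2]⟩
  · obtain ⟨h1, h2⟩ := mem_inf.mp x.2
    rw [mem_stabilizer_iff] at h1 h2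
    exact mem_inf.mpr ⟨by simp [mul_smul, h1], by simp [mul_smul, h2]⟩

theorem stab₂_ne_bot (hZ : Cfsg.IsZassenhausGroup G Ω) {a b : Ω} (hab : a ≠ b) :
    1 < Nat.card (stab₂ G a b) := by
  obtain ⟨g, hg, p, q, hpq, hp, hq⟩ := hZ.2.2.2.1
  rw [← card_stab₂ hZ hab hpq, Finite.one_lt_card_iff_nontrivial]
  exact ⟨⟨g, hp, hq⟩, 1, fun h => hg (congrArg Subtype.val h)⟩

theorem card_stab (hZ : Cfsg.IsZassenhausGroup G Ω) {a b : Ω} (hab : a ≠ b) {h e : ℕ}
    (hh : Fintype.card Ω = h + 1) (he : Nat.card (stab₂ G a b) = e) (c : Ω) :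
    Nat.card (stabilizer G c) = h * e := by
  obtain ⟨d, hd⟩ : ∃ d, d ≠ c := by
    rcases eq_or_ne a c with rfl | h
    · exact ⟨b, hab.symm⟩
    · exact ⟨a, h⟩
  have horb : orbit (stabilizer G c) d = {x | x ≠ c} := by
    ext x
    simp only [mem_orbit_iff, Set.mem_ofPred_eq]
    constructor
    · rintro ⟨g, rfl⟩ h'
      have hg : (g : G) • c = c := g.2
      exact hd (smul_left_cancel (g : G) ((show (g : G) • d = c from h').trans hg.symm))
    · intro hx
      obtain ⟨g, hg1, hg2⟩ := exists_map hZ (Ne.symm hd) (Ne.symm hx)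
      exact ⟨⟨g, hg1⟩, hg2⟩
  have h1 := card_mul_index (stabilizer (stabilizer G c) d)
  rw [index_stabilizer, horb, Nat.card_congr
    (show stabilizer (stabilizer G c) d ≃ stab₂ G c d from
      { toFun := fun g => ⟨g.1.1, g.1.2, g.2⟩
        invFun := fun g => ⟨⟨g.1, g.2.1⟩, g.2.2⟩
        left_inv := fun _ => rfl
        right_inv := fun _ => rfl }), card_stab₂ hZ hab (Ne.symm hd), he] at h1
  rw [← h1, mul_comm]
  congr 1
  rw [show {x : Ω | x ≠ c} = ({c} : Set Ω)ᶜ from rfl, Set.ncard_compl, Set.ncard_singleton,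
    Nat.card_eq_fintype_card, hh]
  omega

theorem card_group (hZ : Cfsg.IsZassenhausGroup G Ω) {a b : Ω} (hab : a ≠ b) {h e : ℕ}
    (hh : Fintype.card Ω = h + 1) (he : Nat.card (stab₂ G a b) = e) :
    Nat.card G = (h + 1) * (h * e) := by
  have horb : orbit G a = Set.univ := Set.eq_univ_of_forall fun x => exists_map_one hZ hab a x
  rw [← card_mul_index (stabilizer G a), card_stab hZ hab hh he, index_stabilizer, horb,
    Set.ncard_univ, Nat.card_eq_fintype_card, hh, mul_comm]

section Count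

variable [Fintype G] [DecidableEq Ω]

/-- The number of fixed points. -/
def nfix (g : G) : ℕ := (Finset.univ.filter fun c : Ω => g • c = c).card

theorem sum_nfix (hZ : Cfsg.IsZassenhausGroup G Ω) {a b : Ω} (hab : a ≠ b) {h e : ℕ}
    (hh : Fintype.card Ω = h + 1) (he : Nat.card (stab₂ G a b) = e) :
    ∑ g : G, nfix (Ω := Ω) g = (h + 1) * (h * e) := by
  classical
  simp only [nfix, Finset.card_filter]
  rw [Finset.sum_comm, Finset.sum_congr rfl (g := fun _ => h * e) fun c _ => by
    rw [← Finset.card_filter, ← Fintype.card_subtype, ← Nat.card_eq_fintype_card]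
    exact card_stab hZ hab hh he c, Finset.sum_const, Finset.card_univ, hh, smul_eq_mul]

theorem sum_nfix_sq (hZ : Cfsg.IsZassenhausGroup G Ω) {a b : Ω} (hab : a ≠ b) {h e : ℕ}
    (hh : Fintype.card Ω = h + 1) (he : Nat.card (stab₂ G a b) = e) :
    ∑ g : G, nfix (Ω := Ω) g * nfix (Ω := Ω) g = (h + 1) * (h * e) + (h + 1) * (h * e) := by
  classical
  simp only [nfix, Finset.card_filter, Finset.sum_mul_sum, ite_mul, one_mul, zero_mul]
  rw [Finset.sum_comm, Finset.sum_congr rfl fun c _ => Finset.sum_comm]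
  have key : ∀ c d : Ω, ∑ g : G, (if g • c = c then if g • d = d then 1 else 0 else 0) =
      if c = d then h * e else e := by
    intro c d
    have h1 : ∀ g : G, (if g • c = c then if g • d = d then 1 else 0 else 0) =
        if g • c = c ∧ g • d = d then 1 else 0 := fun g => by
      split_ifs <;> simp_all
    rw [Finset.sum_congr rfl fun g _ => h1 g, ← Finset.card_filter, ← Fintype.card_subtype,
      ← Nat.card_eq_fintype_card]
    split_ifs with hcd
    · subst hcd
      simp only [and_self]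
      exact card_stab hZ hab hh he c
    · exact (card_stab₂ hZ hab hcd).trans he
  rw [Finset.sum_congr rfl fun c _ => Finset.sum_congr rfl fun d _ => key c d]
  rw [Finset.sum_congr rfl (g := fun _ => h * e + h * e) fun c _ => by
    rw [← Finset.add_sum_erase _ _ (Finset.mem_univ c), if_pos rfl,
      Finset.sum_congr rfl (g := fun _ => e) fun d hd => if_neg (Finset.ne_of_mem_erase hd).symm,
      Finset.sum_const, Finset.card_erase_of_mem (Finset.mem_univ c), Finset.card_univ, hh,
      smul_eq_mul, Nat.add_sub_cancel],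
    Finset.sum_const, Finset.card_univ, hh, smul_eq_mul, mul_add]

theorem nfix_le (hZ : Cfsg.IsZassenhausGroup G Ω) {g : G} (hg : g ≠ 1) : nfix (Ω := Ω) g ≤ 2 := by
  by_contra hc
  push Not at hc
  obtain ⟨p, q, r, hp, hq, hr, hpq, hpr, hqr⟩ := Finset.two_lt_card_iff.mp hc
  simp only [Finset.mem_filter, Finset.mem_univ, true_and] at hp hq hr
  exact hg (eq_one_of_three hZ hpq hpr.symm hqr.symm hp hq hr)

theorem nfix_one : nfix (Ω := Ω) (1 : G) = Fintype.card Ω := by
  simp [nfix]

/-- The number of elements with a given number of fixed points. -/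
theorem counts (hZ : Cfsg.IsZassenhausGroup G Ω) {a b : Ω} (hab : a ≠ b) {h e : ℕ}
    (hh : Fintype.card Ω = h + 1) (he : Nat.card (stab₂ G a b) = e) (hh2 : 2 ≤ h) :
    2 * (Finset.univ.filter fun g : G => nfix (Ω := Ω) g = 2).card + (h + 1) * h = (h + 1) * (h * e) ∧
    (Finset.univ.filter fun g : G => nfix (Ω := Ω) g = 1).card + (h + 1) = (h + 1) * h ∧
    1 + (Finset.univ.filter fun g : G => nfix (Ω := Ω) g = 0).card
      + (Finset.univ.filter fun g : G => nfix (Ω := Ω) g = 1).card
      + (Finset.univ.filter fun g : G => nfix (Ω := Ω) g = 2).card = (h + 1) * (h * e) := by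
  classical
  set n : ℕ → ℕ := fun i => (Finset.univ.filter fun g : G => nfix (Ω := Ω) g = i).card with hn
  have hsplit : ∀ f : ℕ → ℕ, ∑ g : G, f (nfix (Ω := Ω) g) =
      f (h + 1) + n 0 * f 0 + n 1 * f 1 + n 2 * f 2 := by
    intro f
    have hpt : ∀ g : G, f (nfix (Ω := Ω) g) = (if g = 1 then f (h + 1) else 0)
        + (if nfix (Ω := Ω) g = 0 then f 0 else 0) + (if nfix (Ω := Ω) g = 1 then f 1 else 0)
        + (if nfix (Ω := Ω) g = 2 then f 2 else 0) := by
      intro g
      rcases eq_or_ne g 1 with rfl | hg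
      · rw [nfix_one, hh, if_pos rfl, if_neg (by omega), if_neg (by omega), if_neg (by omega)]
        simp
      · have := nfix_le hZ (Ω := Ω) hg
        rw [if_neg hg]
        interval_cases nfix (Ω := Ω) g <;> simp
    rw [Finset.sum_congr rfl fun g _ => hpt g, Finset.sum_add_distrib, Finset.sum_add_distrib,
      Finset.sum_add_distrib, Finset.sum_ite_eq' Finset.univ (1 : G), if_pos (Finset.mem_univ _)]
    simp only [← Finset.sum_filter, Finset.sum_const, smul_eq_mul, hn]
  have e0 := hsplit fun _ => 1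
  have e1 := hsplit id
  have e2 := hsplit fun x => x * x
  rw [sum_nfix_sq hZ hab hh he] at e2
  simp only [id] at e1
  rw [sum_nfix hZ hab hh he] at e1
  rw [Finset.sum_const, Finset.card_univ, ← Nat.card_eq_fintype_card, card_group hZ hab hh he] at e0
  simp only [smul_eq_mul, mul_one] at e0
  refine ⟨?_, ?_, ?_⟩
  · change 2 * n 2 + _ = _
    nlinarith
  · change n 1 + _ = _
    nlinarith
  · change 1 + n 0 + n 1 + n 2 = _
    omega

omit [Finite G] in
theorem nfix_conj (g k : G) : nfix (Ω := Ω) (k * g * k⁻¹) = nfix (Ω := Ω) g := by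
  refine Finset.card_bij' (fun c _ => k⁻¹ • c) (fun c _ => k • c) ?_ ?_ ?_ ?_
  · intro c hc
    simp only [Finset.mem_filter, Finset.mem_univ, true_and, mul_smul] at hc ⊢
    exact eq_inv_smul_iff.mpr hc
  · intro c hc
    simp only [Finset.mem_filter, Finset.mem_univ, true_and, mul_smul, inv_smul_smul] at hc ⊢
    rw [hc]
  · intro c _; simp
  · intro c _; simp

end Count

section Kernel

variable {a b : Ω} {h e : ℕ} {H : Subgroup G}

theorem two_le (hZ : Cfsg.IsZassenhausGroup G Ω) (hab : a ≠ b) (hh : Fintype.card Ω = h + 1) :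
    2 ≤ h := by
  classical
  by_contra hlt
  have h1 := stab₂_ne_bot hZ hab
  rw [Finite.one_lt_card_iff_nontrivial] at h1
  obtain ⟨⟨g, hg⟩, hg1⟩ := exists_ne (1 : stab₂ G a b)
  apply hg1
  apply Subtype.ext
  have := hZ.1
  refine eq_of_smul_eq_smul (α := Ω) fun c => ?_
  have h2 : ({a, b} : Finset Ω) = Finset.univ := Finset.eq_univ_of_card _ (by
    rw [Finset.card_pair hab]
    have := Finset.card_le_univ ({a, b} : Finset Ω)
    rw [Finset.card_pair hab] at this
    omega)
  have h3 : c ∈ ({a, b} : Finset Ω) := h2 ▸ Finset.mem_univ c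
  simp only [Finset.mem_insert, Finset.mem_singleton] at h3
  simp only [OneMemClass.coe_one, one_smul]
  rcases h3 with rfl | rfl
  · exact hg.1
  · exact hg.2

/-- The elements fixing only `a` lie in `H`. -/
theorem mem_kernel (hZ : Cfsg.IsZassenhausGroup G Ω) (hab : a ≠ b) (hh : Fintype.card Ω = h + 1)
    (hHa : H ≤ stabilizer G a) (hHcard : Nat.card H + 1 = Fintype.card Ω)
    (hHfix : ∀ u ∈ H, u ≠ 1 → ∀ c : Ω, u • c = c → c = a)
    {g : G} (hga : g • a = a) (honly : ∀ c : Ω, g • c = c → c = a) : g ∈ H := by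
  classical
  have := Fintype.ofFinite G
  have hh2 := two_le hZ hab hh
  set e := Nat.card (stab₂ G a b) with he
  obtain ⟨-, hN1, -⟩ := counts hZ hab hh he.symm hh2
  set T : Ω → Finset G := fun c => Finset.univ.filter fun g : G =>
    g • c = c ∧ ∀ d : Ω, g • d = d → d = c with hT
  have hsum : (Finset.univ.filter fun g : G => nfix (Ω := Ω) g = 1).card = ∑ c : Ω, (T c).card := by
    rw [← Finset.card_biUnion]
    · congr 1
      ext g
      simp only [Finset.mem_filter, Finset.mem_univ, true_and, Finset.mem_biUnion, hT, nfix,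
        Finset.card_eq_one, Finset.eq_singleton_iff_unique_mem]
    · intro c _ d _ hcd
      rw [Function.onFun, Finset.disjoint_left]
      intro g hc hd
      simp only [hT, Finset.mem_filter, Finset.mem_univ, true_and] at hc hd
      exact hcd (hd.2 c hc.1)
  have hconst : ∀ c, (T c).card = (T a).card := by
    intro c
    obtain ⟨k, rfl⟩ := exists_map_one hZ hab a c
    refine Finset.card_bij' (fun g _ => k⁻¹ * g * k) (fun g _ => k * g * k⁻¹) ?_ ?_ ?_ ?_
    · intro g hg
      simp only [hT, Finset.mem_filter, Finset.mem_univ, true_and, mul_smul] at hg ⊢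
      refine ⟨by rw [hg.1, inv_smul_smul], fun d hd => ?_⟩
      have := hg.2 (k • d) (inv_smul_eq_iff.mp hd)
      exact smul_left_cancel k this
    · intro g hg
      simp only [hT, Finset.mem_filter, Finset.mem_univ, true_and, mul_smul] at hg ⊢
      refine ⟨by rw [inv_smul_smul, hg.1], fun d hd => ?_⟩
      have := hg.2 (k⁻¹ • d) (eq_inv_smul_iff.mpr hd)
      exact inv_smul_eq_iff.mp this
    · intro g _; group
    · intro g _; group
  rw [hsum, Finset.sum_congr rfl fun c _ => hconst c, Finset.sum_const, Finset.card_univ, hh,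
    smul_eq_mul] at hN1
  have hTa : (T a).card + 1 = h := Nat.eq_of_mul_eq_mul_left (Nat.succ_pos h) (by linarith)
  have hsub : (Finset.univ.filter fun g : G => g ∈ H).erase 1 ⊆ T a := by
    intro u hu
    simp only [Finset.mem_erase, Finset.mem_filter, Finset.mem_univ, true_and] at hu
    simp only [hT, Finset.mem_filter, Finset.mem_univ, true_and]
    exact ⟨hHa hu.2, fun d hd => hHfix u hu.2 hu.1 d hd⟩
  have hHh : (Finset.univ.filter fun g : G => g ∈ H).card = h := by
    rw [← Fintype.card_subtype, ← Nat.card_eq_fintype_card]; omega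
  have heq := Finset.eq_of_subset_of_card_le hsub (by
    rw [Finset.card_erase_of_mem (by simp [one_mem]), hHh]; omega)
  have hgT : g ∈ T a := by
    simp only [hT, Finset.mem_filter, Finset.mem_univ, true_and]
    exact ⟨hga, honly⟩
  rw [← heq] at hgT
  exact (Finset.mem_filter.mp (Finset.mem_of_mem_erase hgT)).2

theorem kernel_normal (hZ : Cfsg.IsZassenhausGroup G Ω) (hab : a ≠ b)
    (hh : Fintype.card Ω = h + 1) (hHa : H ≤ stabilizer G a)
    (hHcard : Nat.card H + 1 = Fintype.card Ω)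
    (hHfix : ∀ u ∈ H, u ≠ 1 → ∀ c : Ω, u • c = c → c = a) :
    ∀ f ∈ stabilizer G a, ∀ u ∈ H, f * u * f⁻¹ ∈ H := by
  intro f hf u hu
  rcases eq_or_ne u 1 with rfl | hu1
  · simp [one_mem]
  have hfa : f • a = a := hf
  have hfa' : f⁻¹ • a = a := inv_smul_eq_iff.mpr hfa.symm
  refine mem_kernel hZ hab hh hHa hHcard hHfix ?_ fun c hc => ?_
  · rw [mul_smul, mul_smul, hfa', show u • a = a from hHa hu, hfa]
  · rw [mul_smul, mul_smul] at hc
    have := hHfix u hu hu1 (f⁻¹ • c) (eq_inv_smul_iff.mpr hc)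
    rw [inv_smul_eq_iff, hfa] at this
    exact this

/-- `H` is regular on the points other than `a`. -/
theorem exists_kernel_map (hHa : H ≤ stabilizer G a) (hHcard : Nat.card H + 1 = Fintype.card Ω)
    (hHfix : ∀ u ∈ H, u ≠ 1 → ∀ c : Ω, u • c = c → c = a) {c d : Ω} (hc : c ≠ a) (hd : d ≠ a) :
    ∃ u ∈ H, u • c = d := by
  classical
  let f : H → {x : Ω // x ≠ a} := fun u => ⟨(u : G) • c, fun h' =>
    hc (smul_left_cancel (u : G) (h'.trans (show (u : G) • a = a from hHa u.2).symm))⟩
  have hf : Function.Injective f := by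
    intro u v huv
    have huv' : (u : G) • c = (v : G) • c := congrArg Subtype.val huv
    by_contra hne
    refine hc (hHfix ((v : G)⁻¹ * u) (mul_mem (inv_mem v.2) u.2)
      (fun h1 => hne (Subtype.ext (inv_mul_eq_one.mp h1).symm)) c ?_)
    rw [mul_smul, huv', inv_smul_smul]
  have hcard : Nat.card {x : Ω // x ≠ a} ≤ Nat.card H := by
    rw [Nat.card_eq_fintype_card (α := {x : Ω // x ≠ a}), Fintype.card_subtype_compl,
      Fintype.card_subtype_eq]
    omega
  obtain ⟨u, hu⟩ := (hf.bijective_of_nat_card_le hcard).2 ⟨d, hd⟩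
  exact ⟨u, u.2, congrArg Subtype.val hu⟩

theorem fpf (hab : a ≠ b) (hZ : Cfsg.IsZassenhausGroup G Ω) (hHa : H ≤ stabilizer G a)
    (hHfix : ∀ u ∈ H, u ≠ 1 → ∀ c : Ω, u • c = c → c = a) :
    Cfsg.Lib.Frobenius.Fpf (stab₂ G a b) H := by
  intro x hx hx1
  rw [eq_bot_iff_forall]
  intro v hv
  by_contra hv1
  have hva : v • a = a := hHa hv.1
  have hxv : x * v = v * x := (mem_centralizer_singleton_iff.mp hv.2).symm
  have hvb : v • b ≠ b := fun h => hab (hHfix v hv.1 hv1 b h).symm
  have hvba : v • b ≠ a := fun h => hab (smul_left_cancel v (hva.trans h.symm))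
  refine hx1 (eq_one_of_three hZ hab hvba hvb hx.1 hx.2 ?_)
  rw [← mul_smul, hxv, mul_smul, show x • b = b from hx.2]

end Kernel

section Simple

variable {a b : Ω} {e h : ℕ}

theorem commutator_eq_top [IsSimpleGroup G] (hZ : Cfsg.IsZassenhausGroup G Ω) (hab : a ≠ b) :
    _root_.commutator G = ⊤ := by
  refine (IsSimpleGroup.eq_bot_or_eq_top_of_normal _ inferInstance).resolve_left fun hbot => ?_
  have hcomm : ∀ x y : G, x * y = y * x := fun x y => by
    have h1 : ⁅x, y⁆ ∈ (⊥ : Subgroup G) :=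
      hbot ▸ commutator_mem_commutator (mem_top x) (mem_top y)
    exact commutatorElement_eq_one_iff_mul_comm.mp h1
  have h1 := stab₂_ne_bot hZ hab
  rw [Finite.one_lt_card_iff_nontrivial] at h1
  obtain ⟨⟨g, hg⟩, hg1⟩ := exists_ne (1 : stab₂ G a b)
  apply hg1
  apply Subtype.ext
  have := hZ.1
  refine eq_of_smul_eq_smul (α := Ω) fun c => ?_
  obtain ⟨k, rfl⟩ := exists_map_one hZ hab a c
  simp only [OneMemClass.coe_one, one_smul]
  rw [← mul_smul, hcomm, mul_smul, show g • a = a from hg.1]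

theorem hom_trivial [IsSimpleGroup G] (hZ : Cfsg.IsZassenhausGroup G Ω) (hab : a ≠ b) {A : Type w} [CommGroup A]
    (V : G →* A) (g : G) : V g = 1 := by
  have h1 := Abelianization.commutator_subset_ker V
  rw [commutator_eq_top hZ hab] at h1
  exact h1 (mem_top g)

/-- The transfer gives that an element fixing `a` and `x • a` is killed together with its
conjugate by every homomorphism of the stabiliser to an abelian group. -/
theorem hom_mul_conj (hZ : Cfsg.IsZassenhausGroup G Ω) (hab : a ≠ b) {A : Type w} [CommGroup A]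
    (φ : stabilizer G a →* A) {u x : G} (hu : u ∈ stabilizer G a) (hx : x • a ≠ a)
    (hxu : x⁻¹ * u * x ∈ stabilizer G a) (huG : u ∈ _root_.commutator G) :
    φ ⟨u, hu⟩ * φ ⟨x⁻¹ * u * x, hxu⟩ = 1 := by
  rw [← transfer_two (stabilizer G a) φ hu hxu hx fun m c hc => ?_]
  · exact Abelianization.commutator_subset_ker _ huG
  · rw [or_iff_not_imp_left]
    intro hm
    by_contra hcon
    push Not at hcon
    obtain ⟨hc1, hc2⟩ := hcon
    rw [mem_stabilizer_iff] at hc1 hc2 hxu hu hc
    rw [mul_smul, mul_smul, inv_smul_eq_iff] at hxu hc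
    rw [mul_smul, inv_smul_eq_iff] at hc2
    have hum : ∀ p : Ω, u • p = p → u ^ m • p = p := fun p hp =>
      mem_stabilizer_iff.mp (pow_mem (mem_stabilizer_iff.mpr hp) m)
    exact hm (eq_one_of_three hZ (Ne.symm hx) hc1 hc2 (hum _ hu) (hum _ hxu) hc)

variable {H : Subgroup G}

/-- The structure of a two-point stabiliser contained in the commutator subgroup. -/
theorem structure₂_of_mem (hZ : Cfsg.IsZassenhausGroup G Ω) (hab : a ≠ b)
    (hh : Fintype.card Ω = h + 1) (hodd : Odd (Nat.card (stab₂ G a b)))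
    (hHa : H ≤ stabilizer G a) (hHcard : Nat.card H + 1 = Fintype.card Ω)
    (hHfix : ∀ u ∈ H, u ≠ 1 → ∀ c : Ω, u • c = c → c = a)
    (hker : ∀ u ∈ stab₂ G a b, u ∈ _root_.commutator G) :
    (∀ x ∈ stab₂ G a b, ∀ y ∈ stab₂ G a b, x * y = y * x) ∧
    ∀ w : G, w • a = b → w • b = a →
      w * w = 1 ∧ ∀ u ∈ stab₂ G a b, w⁻¹ * u * w = u⁻¹ := by
  classical
  set E := stab₂ G a b with hE
  set F := stabilizer G a
  have hEF : E ≤ F := inf_le_left
  have hnorm := kernel_normal hZ hab hh hHa hHcard hHfix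
  let H' : Subgroup F := H.subgroupOf F
  have hH'n : H'.Normal := ⟨fun u hu f => hnorm f f.2 u hu⟩
  let ι : E →* F ⧸ H' := (QuotientGroup.mk' H').comp (inclusion hEF)
  have hι : Function.Bijective ι := by
    constructor
    · rw [← MonoidHom.ker_eq_bot_iff, eq_bot_iff_forall]
      intro x hx
      have h1 : (x : G) ∈ H := (QuotientGroup.eq_one_iff (inclusion hEF x)).mp hx
      apply Subtype.ext
      by_contra hne
      exact hab (hHfix _ h1 hne b x.2.2).symm
    · intro q
      obtain ⟨f, rfl⟩ := QuotientGroup.mk'_surjective H' q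
      have hfa : (f : G) • a = a := f.2
      have hfb : (f : G) • b ≠ a := fun h' =>
        hab (smul_left_cancel (f : G) (hfa.trans h'.symm))
      obtain ⟨u, hu, hub⟩ := exists_kernel_map hHa hHcard hHfix hab.symm hfb
      have hmem : u⁻¹ * f ∈ E := by
        refine mem_inf.mpr ⟨mul_mem (inv_mem (hHa hu)) f.2, mem_stabilizer_iff.mpr ?_⟩
        rw [mul_smul, ← hub, inv_smul_smul]
      refine ⟨⟨_, hmem⟩, ?_⟩
      show (QuotientGroup.mk (inclusion hEF ⟨_, hmem⟩) : F ⧸ H') = QuotientGroup.mk f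
      rw [QuotientGroup.eq]
      show ((u⁻¹ * f : G))⁻¹ * f ∈ H
      rw [mul_inv_rev, inv_inv]
      simpa using hnorm ((f : G)⁻¹) (inv_mem f.2) u hu
  let π : F →* E := (MulEquiv.ofBijective ι hι).symm.toMonoidHom.comp (QuotientGroup.mk' H')
  have hπ : ∀ x : E, π (inclusion hEF x) = x := fun x => by
    show (MulEquiv.ofBijective ι hι).symm (ι x) = x
    exact (MulEquiv.ofBijective ι hι).symm_apply_apply x
  have hswap : ∀ w : G, w • a = b → w • b = a → ∀ u ∈ E, w⁻¹ * u * w ∈ E := by
    intro w hwa hwb u hu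
    refine mem_inf.mpr ⟨mem_stabilizer_iff.mpr ?_, mem_stabilizer_iff.mpr ?_⟩
    · rw [mul_smul, mul_smul, hwa, show u • b = b from hu.2, ← hwa, inv_smul_smul]
    · rw [mul_smul, mul_smul, hwb, show u • a = a from hu.1, ← hwb, inv_smul_smul]
  -- modulo the commutator subgroup swapping elements invert
  have hinvab : ∀ w : G, ∀ (hwa : w • a = b) (hwb : w • b = a) (u : E),
      Abelianization.of u *
        Abelianization.of (⟨w⁻¹ * u * w, hswap w hwa hwb u u.2⟩ : E) = 1 := by
    intro w hwa hwb u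
    have h1 := hom_mul_conj hZ hab (Abelianization.of.comp π) (hEF u.2) (x := w)
      (by rw [hwa]; exact hab.symm) (hEF (hswap w hwa hwb u u.2)) (hker _ u.2)
    change Abelianization.of (π _) * Abelianization.of (π _) = 1 at h1
    rwa [show (⟨(u : G), hEF u.2⟩ : F) = inclusion hEF u from rfl, hπ,
      show (⟨w⁻¹ * u * w, hEF (hswap w hwa hwb u u.2)⟩ : F) =
        inclusion hEF ⟨w⁻¹ * u * w, hswap w hwa hwb u u.2⟩ from rfl, hπ] at h1
  -- `E` is a Z-group
  have hfpf := fpf hab hZ hHa hHfix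
  have hEN : E ≤ normalizer (H : Set G) := fun x hx =>
    mem_normalizer_fintype fun u hu => hnorm x (hEF hx) u hu
  have hHne : H ≠ ⊥ := by
    intro h'
    rw [h', Subgroup.card_bot] at hHcard
    have := two_le hZ hab hh
    omega
  have hZG : IsZGroup E := by
    refine ⟨fun p hp P => ?_⟩
    have := Fact.mk hp
    let A : Subgroup G := (P : Subgroup E).map E.subtype
    have hAE : A ≤ E := map_subtype_le _
    rcases (hfpf.mono hAE).isCyclic_or_quaternion (hAE.trans hEN) hHne (P.2.map E.subtype) with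
      h' | ⟨rfl, n, ⟨eq⟩⟩
    · exact (equivMapOfInjective (P : Subgroup E) E.subtype E.subtype_injective).symm.isCyclic.mp h'
    · exfalso
      have h2 : Nat.card A ∣ Nat.card E := card_dvd_of_le hAE
      rw [Nat.card_congr eq.toEquiv, Nat.card_eq_fintype_card, QuaternionGroup.card] at h2
      exact (Nat.not_even_iff_odd.mpr hodd)
        (even_iff_two_dvd.mpr ((Dvd.intro _ rfl : 2 ∣ 2 * (2 * 2 ^ n)).trans (by
          rw [← mul_assoc]; exact h2)))
  obtain ⟨w₀, hw₀a, hw₀b⟩ := exists_map hZ hab hab.symm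
  let C := _root_.commutator E
  have hCcyc : IsCyclic C := IsZGroup.isCyclic_commutator (G := E)
  let σ : E →* MulAut C := MulAut.conjNormal
  let τ : MulAut E :=
    { toFun := fun u => ⟨w₀⁻¹ * u * w₀, hswap w₀ hw₀a hw₀b u u.2⟩
      invFun := fun u => ⟨w₀ * u * w₀⁻¹, by
        have h1 := hswap w₀⁻¹ (inv_smul_eq_iff.mpr hw₀b.symm) (inv_smul_eq_iff.mpr hw₀a.symm) u u.2
        rwa [inv_inv] at h1⟩
      left_inv := fun u => Subtype.ext (by simp [mul_assoc])
      right_inv := fun u => Subtype.ext (by simp [mul_assoc])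
      map_mul' := fun u v => Subtype.ext (by simp [mul_assoc]) }
  have hτC : ∀ c ∈ C, τ c ∈ C := fun c hc => by
    have h1 : C.map τ.toMonoidHom = C := Subgroup.characteristic_iff_map_eq.mp inferInstance τ
    rw [← h1]
    exact ⟨c, hc, rfl⟩
  have hτC' : ∀ c ∈ C, τ.symm c ∈ C := fun c hc => by
    have h1 : C.map τ.symm.toMonoidHom = C :=
      Subgroup.characteristic_iff_map_eq.mp inferInstance τ.symm
    rw [← h1]
    exact ⟨c, hc, rfl⟩
  let τC : MulAut C :=
    { toFun := fun c => ⟨τ c, hτC c c.2⟩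
      invFun := fun c => ⟨τ.symm c, hτC' c c.2⟩
      left_inv := fun c => Subtype.ext (τ.symm_apply_apply (c : E))
      right_inv := fun c => Subtype.ext (τ.apply_symm_apply (c : E))
      map_mul' := fun c d => Subtype.ext (map_mul τ (c : E) d) }
  have hAutcomm : ∀ f g : MulAut C, f * g = g * f := fun f g =>
    (IsCyclic.mulAutMulEquiv C).injective (by rw [map_mul, map_mul, mul_comm])
  have hστ : ∀ u : E, σ (τ u) = σ u := by
    intro u
    have h1 : σ (τ u) * τC = τC * σ u := by
      refine MulEquiv.ext fun c => Subtype.ext ?_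
      show ((MulAut.conjNormal (τ u) (τC c) : C) : E) = ((τC (MulAut.conjNormal u c) : C) : E)
      rw [MulAut.conjNormal_apply]
      show τ u * τ c * (τ u)⁻¹ = τ ((MulAut.conjNormal u c : C) : E)
      rw [MulAut.conjNormal_apply, map_mul, map_mul, map_inv]
    rw [hAutcomm τC] at h1
    exact mul_right_cancel h1
  have hσC : ∀ c ∈ C, σ c = 1 := fun c hc => by
    have := hCcyc.isMulCommutative
    refine MulEquiv.ext fun d => Subtype.ext ?_
    show ((MulAut.conjNormal c d : C) : E) = d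
    rw [MulAut.conjNormal_apply, mul_inv_eq_iff_eq_mul]
    exact congrArg Subtype.val (this.is_comm.comm (⟨c, hc⟩ : C) d)
  have hσ1 : ∀ u : E, σ u = 1 := by
    intro u
    have hmem : u * τ u ∈ C := by
      show u * τ u ∈ _root_.commutator E
      rw [← Abelianization.ker_of, MonoidHom.mem_ker, map_mul]
      exact hinvab w₀ hw₀a hw₀b u
    have h1 : σ u * σ u = 1 := by
      calc σ u * σ u = σ u * σ (τ u) := by rw [hστ]
        _ = σ (u * τ u) := (map_mul σ _ _).symm
        _ = 1 := hσC _ hmem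
    have h2 : σ u ^ Nat.card E = 1 := by rw [← map_pow, pow_card_eq_one', map_one]
    rw [← orderOf_eq_one_iff]
    refine Nat.eq_one_of_dvd_coprimes ?_ (orderOf_dvd_of_pow_eq_one (n := 2) (by rw [sq]; exact h1))
      (orderOf_dvd_of_pow_eq_one h2)
    exact (Nat.prime_two.coprime_iff_not_dvd.mpr hodd.not_two_dvd_nat)
  have hker : (Abelianization.of : E →* Abelianization E).ker ≤ center E := by
    rw [Abelianization.ker_of]
    intro c hc
    refine mem_center_iff.mpr fun u => ?_
    have h1 := congrArg Subtype.val (DFunLike.congr_fun (hσ1 u) (⟨c, hc⟩ : C))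
    rw [MulAut.conjNormal_apply, MulAut.one_apply] at h1
    exact mul_inv_eq_iff_eq_mul.mp h1
  have : IsCyclic (Abelianization E) := IsZGroup.isCyclic_abelianization
  have hcomm : ∀ x y : E, x * y = y * x :=
    commutative_of_cyclic_center_quotient Abelianization.of hker
  have hCbot : C = ⊥ := by
    show _root_.commutator E = ⊥
    rw [eq_bot_iff, _root_.commutator_def, commutator_le]
    intro x _ y _
    rw [mem_bot]
    exact commutatorElement_eq_one_iff_mul_comm.mpr (hcomm x y)
  refine ⟨fun x hx y hy => congrArg Subtype.val (hcomm ⟨x, hx⟩ ⟨y, hy⟩), fun w hwa hwb => ?_⟩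
  have hinv : ∀ u ∈ E, w⁻¹ * u * w = u⁻¹ := by
    intro u hu
    have h1 := hinvab w hwa hwb ⟨u, hu⟩
    rw [← map_mul, ← MonoidHom.mem_ker, Abelianization.ker_of, show _root_.commutator E = ⊥ from
      hCbot, mem_bot] at h1
    exact (eq_inv_of_mul_eq_one_right (congrArg Subtype.val h1 :))
  refine ⟨?_, hinv⟩
  have hw2 : w * w ∈ E := mem_inf.mpr
    ⟨mem_stabilizer_iff.mpr (by rw [mul_smul, hwa, hwb]),
      mem_stabilizer_iff.mpr (by rw [mul_smul, hwb, hwa])⟩
  have h1 := hinv _ hw2
  rw [← mul_assoc, inv_mul_cancel, one_mul] at h1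
  have h2 : (⟨w * w, hw2⟩ : E) ^ 2 = 1 := Subtype.ext (by
    show (w * w) ^ 2 = 1
    rw [sq]
    exact mul_eq_one_iff_eq_inv.mpr h1)
  have h3 : orderOf (⟨w * w, hw2⟩ : E) = 1 := Nat.eq_one_of_dvd_coprimes
    (Nat.prime_two.coprime_iff_not_dvd.mpr hodd.not_two_dvd_nat)
    (orderOf_dvd_of_pow_eq_one h2) (orderOf_dvd_natCard _)
  exact congrArg Subtype.val (orderOf_eq_one_iff.mp h3)

/-- The structure of the two-point stabiliser. -/
theorem structure₂ [IsSimpleGroup G] (hZ : Cfsg.IsZassenhausGroup G Ω) (hab : a ≠ b)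
    (hh : Fintype.card Ω = h + 1) (hodd : Odd (Nat.card (stab₂ G a b)))
    (hHa : H ≤ stabilizer G a) (hHcard : Nat.card H + 1 = Fintype.card Ω)
    (hHfix : ∀ u ∈ H, u ≠ 1 → ∀ c : Ω, u • c = c → c = a) :
    (∀ x ∈ stab₂ G a b, ∀ y ∈ stab₂ G a b, x * y = y * x) ∧
    ∀ w : G, w • a = b → w • b = a →
      w * w = 1 ∧ ∀ u ∈ stab₂ G a b, w⁻¹ * u * w = u⁻¹ :=
  structure₂_of_mem hZ hab hh hodd hHa hHcard hHfix fun u _ =>
    (commutator_eq_top hZ hab).symm ▸ mem_top u

end Simple

end Cfsg.Lib.OddChar.Zassenhaus
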